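import Mathlib

/-!
# Binary linear groups

`H` acts faithfully and irreducibly on the finite elementary abelian `p`-group `V`, and any map
between finite tuples of `V` preserving the `H`-classes of the entries and of the differences is
induced by an element of `H`.
-/

set_option autoImplicit false

namespace Cfsg.Agent.H900.BinLin

section Defs

variable (H : Type*) {V : Type*} [Group H] [AddCommGroup V] [DistribMulAction H V]

/-- `x` and `y` are in the same `H`-orbit. -/
def Cj (x y : V) : Prop := ∃ h : H, h • x = y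

variable {H}

theorem Cj.refl (x : V) : Cj H x x := ⟨1, one_smul _ _⟩

theorem Cj.of_eq {x y : V} (h : x = y) : Cj H x y := h ▸ Cj.refl x

theorem Cj.symm {x y : V} (h : Cj H x y) : Cj H y x := by
  obtain ⟨g, rfl⟩ := h
  exact ⟨g⁻¹, inv_smul_smul _ _⟩

theorem Cj.trans {x y z : V} (h : Cj H x y) (h' : Cj H y z) : Cj H x z := by
  obtain ⟨g, rfl⟩ := h
  obtain ⟨g', rfl⟩ := h'
  exact ⟨g' * g, mul_smul _ _ _⟩

theorem Cj.neg {x y : V} (h : Cj H x y) : Cj H (-x) (-y) := by
  obtain ⟨g, rfl⟩ := h
  exact ⟨g, smul_neg _ _⟩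

theorem Cj.nsmul {x y : V} (n : ℕ) (h : Cj H x y) : Cj H (n • x) (n • y) := by
  obtain ⟨g, rfl⟩ := h
  exact ⟨g, (smul_comm _ _ _)⟩

theorem Cj.smul (g : H) (x : V) : Cj H x (g • x) := ⟨g, rfl⟩

theorem Cj.smul_smul {x y : V} (g : H) (h : Cj H x y) : Cj H (g • x) (g • y) :=
  ((Cj.smul g x).symm.trans h).trans (Cj.smul g y)

theorem Cj.sub_comm {x y x' y' : V} (h : Cj H (x - y) (x' - y')) : Cj H (y - x) (y' - x') := by
  simpa using h.neg

theorem Cj.zero_iff {x : V} : Cj H x 0 ↔ x = 0 := by
  constructor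
  · rintro ⟨g, hg⟩
    rwa [smul_eq_zero_iff_eq] at hg
  · rintro rfl; exact Cj.refl _

/-- the map `v ↦ g v - v` -/
def dl (g : H) : V →+ V := DistribSMul.toAddMonoidHom V g - AddMonoidHom.id V

@[simp] theorem dl_apply (g : H) (v : V) : dl g v = g • v - v := rfl

/-- fixed vectors of `g` -/
def U (V : Type*) [AddCommGroup V] [DistribMulAction H V] (g : H) : AddSubgroup V := (dl (V := V) g).ker

/-- the image of `g - 1` -/
def Im (V : Type*) [AddCommGroup V] [DistribMulAction H V] (g : H) : AddSubgroup V := (dl (V := V) g).range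

theorem mem_U {g : H} {v : V} : v ∈ U V g ↔ g • v = v := by
  rw [U, AddMonoidHom.mem_ker, dl_apply, sub_eq_zero]

theorem mem_Im {g : H} {w : V} : w ∈ Im V g ↔ ∃ v : V, g • v = v + w := by
  rw [Im, AddMonoidHom.mem_range]
  constructor
  · rintro ⟨v, hv⟩
    exact ⟨v, by rw [← hv, dl_apply]; abel⟩
  · rintro ⟨v, hv⟩
    exact ⟨v, by rw [dl_apply, hv]; abel⟩

theorem sub_mem_Im (g : H) (v : V) : g • v - v ∈ Im V g := ⟨v, rfl⟩

theorem card_U_mul_card_Im [Finite V] (g : H) :
    Nat.card (U V g) * Nat.card (Im V g) = Nat.card V := by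
  have h1 := (dl (V := V) g).ker.card_mul_index
  rw [AddSubgroup.index_ker] at h1
  exact h1

theorem conj_mem_U {g k : H} {v : V} : k • v ∈ U V (k * g * k⁻¹) ↔ v ∈ U V g := by
  rw [mem_U, mem_U, mul_smul, mul_smul, inv_smul_smul, smul_left_cancel_iff]

theorem mem_U_conj {g k : H} {v : V} : v ∈ U V (k * g * k⁻¹) ↔ k⁻¹ • v ∈ U V g := by
  rw [← conj_mem_U (k := k) (v := k⁻¹ • v), smul_inv_smul]

theorem conj_mem_Im {g k : H} {v : V} (h : v ∈ Im V g) : k • v ∈ Im V (k * g * k⁻¹) := by
  rw [mem_Im] at h ⊢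
  obtain ⟨x, hx⟩ := h
  refine ⟨k • x, ?_⟩
  rw [mul_smul, mul_smul, inv_smul_smul, hx, smul_add]

end Defs

/-- A binary irreducible linear group. -/
structure Bin (p : ℕ) (H V : Type*) [Group H] [AddCommGroup V] [DistribMulAction H V] : Prop where
  prime : p.Prime
  exp : ∀ v : V, p • v = 0
  faith : ∀ h : H, (∀ v : V, h • v = v) → h = 1
  irr : ∀ M : AddSubgroup V, (∀ (h : H), ∀ m ∈ M, h • m ∈ M) → M = ⊥ ∨ M = ⊤
  bin : ∀ (n : ℕ) (I J : Fin n → V), (∀ i, Cj H (I i) (J i)) →
    (∀ i j, Cj H (I i - I j) (J i - J j)) → ∃ h : H, ∀ i, h • I i = J i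

namespace Bin

variable {p : ℕ} {H V : Type*} [Group H] [AddCommGroup V] [DistribMulAction H V]

theorem bin' (hB : Bin p H V) {ι : Type*} [Finite ι] (I J : ι → V) (h1 : ∀ i, Cj H (I i) (J i))
    (h2 : ∀ i j, Cj H (I i - I j) (J i - J j)) : ∃ h : H, ∀ i, h • I i = J i := by
  obtain ⟨n, ⟨e⟩⟩ := Finite.exists_equiv_fin ι
  obtain ⟨h, hh⟩ := hB.bin n (I ∘ e.symm) (J ∘ e.symm) (fun i => h1 _) (fun i j => h2 _ _)
  refine ⟨h, fun i => ?_⟩
  have := hh (e i)
  simpa using this

/-- two points -/
theorem bin_two (hB : Bin p H V) {x y x' y' : V} (h1 : Cj H x x') (h2 : Cj H y y')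
    (h3 : Cj H (x - y) (x' - y')) : ∃ h : H, h • x = x' ∧ h • y = y' := by
  obtain ⟨h, hh⟩ := hB.bin' (ι := Bool) (fun b => if b then x else y)
    (fun b => if b then x' else y') (by
      intro b; cases b
      · simpa using h2
      · simpa using h1) (by
      intro b c; cases b <;> cases c
      · simpa using Cj.refl _
      · simpa using h3.sub_comm
      · simpa using h3
      · simpa using Cj.refl _)
  exact ⟨h, by simpa using hh true, by simpa using hh false⟩

/-- a version with a function on a set -/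
theorem bin_set [Finite V] (hB : Bin p H V) (S : Set V) (f : V → V) (h1 : ∀ x ∈ S, Cj H x (f x))
    (h2 : ∀ x ∈ S, ∀ y ∈ S, Cj H (x - y) (f x - f y)) : ∃ h : H, ∀ x ∈ S, h • x = f x := by
  obtain ⟨h, hh⟩ := hB.bin' (ι := S) (fun x => (x : V)) (fun x => f x) (fun x => h1 x x.2)
    (fun x y => h2 x x.2 y y.2)
  exact ⟨h, fun x hx => hh ⟨x, hx⟩⟩

theorem swap (hB : Bin p H V) (v : V) (g : H) : ∃ h : H, h • v = g • v ∧ h • (g • v) = v := by
  obtain ⟨h, h1, h2⟩ := hB.bin_two (x := v) (y := -(g • v)) (x' := g • v) (y' := -v)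
    (Cj.smul g v) (Cj.smul g v).symm.neg (Cj.of_eq (by abel))
  refine ⟨h, h1, ?_⟩
  rw [smul_neg] at h2
  exact neg_injective h2

theorem swap' (hB : Bin p H V) {x y : V} (h : Cj H x y) : ∃ h : H, h • x = y ∧ h • y = x := by
  obtain ⟨g, rfl⟩ := h
  exact hB.swap x g

theorem sub_swap (hB : Bin p H V) {x y : V} (h : Cj H x y) : Cj H (x - y) (y - x) := by
  obtain ⟨k, h1, h2⟩ := hB.swap' h
  exact ⟨k, by rw [smul_sub, h1, h2]⟩

/-- `-1 ∈ H` unless `H` is trivial -/
theorem neg_mem [Finite H] (hB : Bin p H V) (hne : ∃ g : H, g ≠ 1) : ∃ z : H, ∀ v : V, z • v = -v := by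
  obtain ⟨g, hg⟩ := hne
  have : ∃ v : V, g • v ≠ v := by
    by_contra hno
    push Not at hno
    exact hg (hB.faith g hno)
  obtain ⟨v, hv⟩ := this
  obtain ⟨z, hz⟩ := hB.bin' (ι := H) (fun h => h • v - v) (fun h => v - h • v)
    (fun h => hB.sub_swap (Cj.smul h v).symm) (by
      intro h h'
      have h1 : Cj H (h • v) (h' • v) := (Cj.smul h v).symm.trans (Cj.smul h' v)
      have := hB.sub_swap h1
      convert this using 1 <;> abel)
  refine ⟨z, ?_⟩
  let M : AddSubgroup V := AddSubgroup.closure (Set.range fun h : H => h • v - v)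
  have hM : M = ⊤ := by
    rcases hB.irr M (by
      intro h m hm
      induction hm using AddSubgroup.closure_induction with
      | mem x hx =>
        obtain ⟨k, rfl⟩ := hx
        have : h • (k • v - v) = ((h * k) • v - v) - (h • v - v) := by
          rw [smul_sub, mul_smul]; abel
        change h • (k • v - v) ∈ M
        rw [this]
        exact M.sub_mem (AddSubgroup.subset_closure ⟨_, rfl⟩) (AddSubgroup.subset_closure ⟨_, rfl⟩)
      | zero => rw [smul_zero]; exact M.zero_mem
      | add x y _ _ hx hy => rw [smul_add]; exact M.add_mem hx hy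
      | neg x _ hx => rw [smul_neg]; exact M.neg_mem hx) with h | h
    · exfalso
      have : g • v - v ∈ M := AddSubgroup.subset_closure ⟨g, rfl⟩
      rw [h, AddSubgroup.mem_bot, sub_eq_zero] at this
      exact hv this
    · exact h
  intro x
  have hx : x ∈ M := by rw [hM]; trivial
  induction hx using AddSubgroup.closure_induction with
  | mem x hx =>
    obtain ⟨k, rfl⟩ := hx
    change z • (k • v - v) = -(k • v - v)
    rw [hz k]; abel
  | zero => simp
  | add x y _ _ hx hy => rw [smul_add, hx, hy]; abel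
  | neg x _ hx => rw [smul_neg, hx]

end Bin

/-- Binary irreducible linear groups with `-1`, on a finite space. -/
structure BinN (p : ℕ) (H V : Type*) [Group H] [AddCommGroup V] [DistribMulAction H V] : Prop
    extends Bin p H V where
  neg : ∃ z : H, ∀ v : V, z • v = -v

namespace BinN

variable {p : ℕ} {H V : Type*} [Group H] [AddCommGroup V] [DistribMulAction H V]

theorem cj_neg (hB : BinN p H V) (v : V) : Cj H v (-v) := by
  obtain ⟨z, hz⟩ := hB.neg
  exact ⟨z, hz v⟩

/-- the half of a vector, for odd `p` -/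
def hf (p : ℕ) (v : V) : V := ((p + 1) / 2) • v

theorem hf_add (hB : BinN p H V) (hp : p ≠ 2) (v : V) : hf p v + hf p v = v := by
  have hodd : p % 2 = 1 := hB.prime.eq_two_or_odd.resolve_left hp
  rw [hf, ← add_nsmul]
  have : (p + 1) / 2 + (p + 1) / 2 = p + 1 := by omega
  rw [this, succ_nsmul, hB.exp, zero_add]

theorem two_nsmul_eq_zero (hB : BinN p H V) (hp : p ≠ 2) {v : V} (h : v + v = 0) : v = 0 := by
  rw [← hB.hf_add hp v]
  have h1 : hf p v + hf p v = hf p (v + v) := by rw [hf, hf, nsmul_add]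
  rw [h1, h, hf, nsmul_zero]

theorem add_self_two (hB : BinN 2 H V) (v : V) : v + v = 0 := by
  rw [← two_nsmul]; exact hB.exp v

theorem neg_two (hB : BinN 2 H V) (v : V) : -v = v := by
  rw [neg_eq_iff_add_eq_zero]; exact hB.add_self_two v

variable [Finite V]

/-- the translation by `w` on the set of all `v` conjugate to `v + w` is induced by an element. -/
theorem exists_trans (hB : BinN p H V) (w : V) : ∃ t : H, ∀ v : V, Cj H v (v + w) → t • v = v + w := by
  obtain ⟨t, ht⟩ := hB.bin_set {v | Cj H v (v + w)} (fun v => v + w) (fun v hv => hv) (by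
    intro x _ y _
    exact Cj.of_eq (by abel))
  exact ⟨t, fun v hv => ht v hv⟩

/-- involution lifting -/
theorem exists_lift (hB : BinN p H V) [Finite H] (g : H) : ∃ t : H, t * t = 1 ∧
    ∀ c : V, g • g • c = c → t • c = g • c := by
  classical
  obtain ⟨t, ht, hmax⟩ := Set.exists_max_image
    {t : H | ∀ c : V, g • g • c = c → t • c = g • c} (fun t => Nat.card (U V (t * t)))
    (Set.toFinite _) ⟨g, fun c _ => rfl⟩
  refine ⟨t, ?_, ht⟩
  apply hB.faith
  by_contra hno
  push Not at hno
  obtain ⟨z, hz⟩ := hno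
  have hinv : ∀ c ∈ U V (t * t), t • c ∈ U V (t * t) := by
    intro c hc
    rw [mem_U] at hc ⊢
    rw [mul_smul] at hc ⊢
    rw [hc]
  obtain ⟨t', ht'⟩ := hB.bin' (ι := U V (t * t) ⊕ Bool)
    (Sum.elim (fun c => (c : V)) (fun b => if b then t • z else z))
    (Sum.elim (fun c => t • (c : V)) (fun b => if b then z else t • z)) (by
      rintro (c | b)
      · exact Cj.smul t _
      · cases b
        · simpa using Cj.smul t z
        · simpa using (Cj.smul t z).symm) (by
      have hsw : Cj H (t • z - z) (z - t • z) := hB.sub_swap (Cj.smul t z).symm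
      have h1 : ∀ c ∈ U V (t * t), Cj H (c - t • z) (t • c - z) := by
        intro c hc
        rw [mem_U, mul_smul] at hc
        have := Cj.smul t⁻¹ (c - t • z)
        convert this using 1
        rw [smul_sub, inv_smul_smul]
        congr 1
        rw [eq_inv_smul_iff, hc]
      have h2 : ∀ c : V, Cj H (c - z) (t • c - t • z) := by
        intro c
        have := Cj.smul t (c - z)
        rwa [smul_sub] at this
      rintro (c | b) (c' | b')
      · have := Cj.smul t ((c : V) - c')
        rwa [smul_sub] at this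
      · cases b'
        · simpa using h2 c
        · simpa using h1 c c.2
      · cases b
        · simpa using (h2 c').sub_comm
        · simpa using (h1 c' c'.2).sub_comm
      · cases b <;> cases b'
        · simpa using Cj.refl _
        · simpa using hsw.sub_comm
        · simpa using hsw
        · simpa using Cj.refl _)
  have e1 : ∀ c ∈ U V (t * t), t' • c = t • c := fun c hc => by simpa using ht' (Sum.inl ⟨c, hc⟩)
  have e2 : t' • z = t • z := by simpa using ht' (Sum.inr false)
  have e3 : t' • t • z = z := by simpa using ht' (Sum.inr true)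
  have hmem : t' ∈ {t : H | ∀ c : V, g • g • c = c → t • c = g • c} := by
    intro c hc
    have h1 : t • c = g • c := ht c hc
    have h2 : t • g • c = g • g • c := ht (g • c) (by rw [hc])
    rw [← h1]
    apply e1
    rw [mem_U, mul_smul, h1, h2, hc]
  have hle : U V (t * t) ≤ U V (t' * t') := by
    intro c hc
    rw [mem_U, mul_smul, e1 c hc, e1 _ (hinv c hc), ← mul_smul]
    exact mem_U.mp hc
  have hlt : U V (t * t) < U V (t' * t') := by
    refine lt_of_le_of_ne hle fun heq => hz ?_
    have : z ∈ U V (t' * t') := by rw [mem_U, mul_smul, e2, e3]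
    rw [← heq, mem_U] at this
    exact this
  have h3 := hmax t' hmem
  have h4 : Nat.card (U V (t * t)) < Nat.card (U V (t' * t')) := by
    have : Finite (U V (t' * t')) := inferInstance
    exact Set.Finite.card_lt_card (Set.toFinite _) hlt
  omega

/-- the involution attached to `w`. -/
theorem exists_inv (hB : BinN p H V) [Finite H] (w : V) :
    ∃ t : H, t * t = 1 ∧ ∀ v : V, Cj H v (v + w) ↔ t • v = v + w := by
  obtain ⟨g, hg⟩ := hB.exists_trans w
  obtain ⟨t, ht, htg⟩ := hB.exists_lift g
  refine ⟨t, ht, fun v => ⟨fun hv => ?_, fun hv => ⟨t, hv⟩⟩⟩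
  rw [htg v, hg v hv]
  rw [hg v hv]
  by_cases hp : p = 2
  · subst hp
    have h1 : v + w + w = v := by rw [add_assoc, hB.add_self_two, add_zero]
    have h2 := hg (v + w) (by rw [h1]; exact hv.symm)
    rw [h2, h1]
  · have h1 : Cj H (-hf p w) (-hf p w + w) := by
      have h2 : -hf p w + w = hf p w := by
        nth_rewrite 2 [← hB.hf_add hp w]
        abel
      rw [h2]
      exact (hB.cj_neg _).symm
    have h2 := hg _ h1
    have h3 : -hf p w + w = hf p w := by
      nth_rewrite 2 [← hB.hf_add hp w]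
      abel
    rw [h3, smul_neg] at h2
    have h4 : g • w = -w := by
      have h5 : g • hf p w = - hf p w := neg_eq_iff_eq_neg.mp h2
      have h6 := hB.hf_add hp w
      calc g • w = g • (hf p w + hf p w) := by rw [h6]
        _ = -(hf p w + hf p w) := by rw [smul_add, h5]; abel
        _ = -w := by rw [h6]
    rw [smul_add, hg v hv, h4]
    abel

end BinN

end Cfsg.Agent.H900.BinLin
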