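import Mathlib
import Cfsg.Agent.H900.BinLin.Final

/-!
# From binary primitive groups of affine type to binary irreducible linear groups
-/

set_option autoImplicit false

namespace Cfsg.Agent.H900.BinLin

open MulAction

theorem affine_thm {G Ω : Type*} [Group G] [Finite G] [MulAction G Ω] [FaithfulSMul G Ω] [Fintype Ω]
    (hprim : MulAction.IsPreprimitive G Ω) (N : Subgroup G) (hNn : N.Normal) (hN : N ≠ ⊥)
    (hNc : ∀ a ∈ N, ∀ b ∈ N, a * b = b * a)
    (hbin : ∀ (n : ℕ) (I J : Fin n → Ω), 2 ≤ n →
      (∀ i j : Fin n, i ≠ j → ∃ g : G, g • I i = J i ∧ g • I j = J j) → ∃ g : G, ∀ i, g • I i = J i) :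
    ((Fintype.card Ω).Prime ∧ ∀ ω : Ω, Nat.card ↥(MulAction.stabilizer G ω) ≤ 2) ∨
    (∃ (F E : Type) (_ : Field F) (_ : Fintype F) (_ : Field E) (_ : Fintype E) (_ : Algebra F E) (e : Ω ≃ E),
        Module.finrank F E = 2 ∧
        ∀ σ : Equiv.Perm Ω, σ ∈ (MulAction.toPermHom G Ω).range ↔
          ∃ (a b : E) (φ : E ≃ₐ[F] E), Algebra.norm F a = 1 ∧ ∀ ω : Ω, e (σ ω) = a * φ (e ω) + b) := by
  classical
  have hfaith : ∀ g : G, (∀ ω : Ω, g • ω = ω) → g = 1 := by
    intro g hg
    apply FaithfulSMul.eq_of_smul_eq_smul (α := Ω)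
    intro ω; rw [hg, one_smul]
  -- nontrivial normal subgroups are transitive
  have htrans : ∀ K : Subgroup G, K.Normal → K ≠ ⊥ → ∀ x y : Ω, ∃ k ∈ K, k • x = y := by
    intro K hK hKb x y
    have h1 : fixedPoints K Ω ≠ .univ := by
      intro h
      apply hKb
      rw [eq_bot_iff]
      intro k hk
      rw [Subgroup.mem_bot]
      apply hfaith
      intro ω
      have : ω ∈ fixedPoints K Ω := by rw [h]; trivial
      exact this ⟨k, hk⟩
    have h2 : IsPretransitive K Ω := IsQuasiPreprimitive.isPretransitive_of_normal h1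
    obtain ⟨k, hk⟩ := h2.exists_smul_eq x y
    exact ⟨k, k.2, hk⟩
  have hNt := htrans N hNn hN
  have hNreg : ∀ n ∈ N, ∀ ω : Ω, n • ω = ω → n = 1 := by
    intro n hn ω hω
    apply hfaith
    intro x
    obtain ⟨m, hm, rfl⟩ := hNt ω x
    rw [← mul_smul, hNc n hn m hm, mul_smul, hω]
  -- base point
  obtain ⟨n0, hn0⟩ := Subgroup.ne_bot_iff_exists_ne_one.mp hN
  have hn01 : (n0 : G) ≠ 1 := fun h' => hn0 (Subtype.ext h')
  have hΩ : Nonempty Ω := by
    by_contra hno
    rw [not_nonempty_iff] at hno
    exact hn01 (hfaith _ fun ω => (hno.false ω).elim)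
  obtain ⟨ω0⟩ := hΩ
  let _ : CommGroup N := { (inferInstance : Group N) with
    mul_comm := fun x y => Subtype.ext (hNc x x.2 y y.2) }
  let V := Additive N
  let H := stabilizer G ω0
  let tv : V → G := fun v => ((Additive.toMul v : N) : G)
  have tv_mem : ∀ v, tv v ∈ N := fun v => (Additive.toMul v).2
  have tv_add : ∀ v w, tv (v + w) = tv v * tv w := fun v w => rfl
  have tv_zero : tv 0 = 1 := rfl
  have tv_neg : ∀ v, tv (-v) = (tv v)⁻¹ := fun v => rfl
  have tv_inj : Function.Injective tv := by
    intro v w h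
    exact Subtype.ext h
  have tv_surj : ∀ n ∈ N, ∃ v : V, tv v = n := fun n hn => ⟨Additive.ofMul ⟨n, hn⟩, rfl⟩
  let _ : DistribMulAction H V :=
    { smul := fun h v => Additive.ofMul (MulAut.conjNormal (h : G) (Additive.toMul v))
      one_smul := by
        intro v
        change Additive.ofMul (MulAut.conjNormal (1 : G) (Additive.toMul v)) = v
        rw [map_one]; rfl
      mul_smul := by
        intro a b v
        change Additive.ofMul (MulAut.conjNormal ((a : G) * b) (Additive.toMul v)) = _
        rw [map_mul]; rfl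
      smul_zero := by
        intro a
        change Additive.ofMul (MulAut.conjNormal (a : G) 1) = 0
        rw [map_one]; rfl
      smul_add := by
        intro a v w
        change Additive.ofMul (MulAut.conjNormal (a : G) (Additive.toMul v * Additive.toMul w)) = _
        rw [map_mul]; rfl }
  have tv_smul : ∀ (h : H) (v : V), tv (h • v) = h * tv v * (h : G)⁻¹ := fun h v => rfl
  have hH0 : ∀ h : H, (h : G) • ω0 = ω0 := fun h => h.2
  let pt : V → Ω := fun v => tv v • ω0
  have hpt : ∀ v, pt v = tv v • ω0 := fun v => rfl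
  have pt_bij : Function.Bijective pt := by
    constructor
    · intro v w h
      have h1 : tv v • ω0 = tv w • ω0 := h
      have h2 : (tv w)⁻¹ * tv v = 1 := by
        apply hNreg _ (N.mul_mem (N.inv_mem (tv_mem w)) (tv_mem v)) ω0
        rw [mul_smul, h1, inv_smul_smul]
      apply tv_inj
      rw [← mul_left_cancel_iff (a := (tv w)⁻¹), h2, inv_mul_cancel]
    · intro ω
      obtain ⟨n, hn, hω⟩ := hNt ω0 ω
      obtain ⟨v, rfl⟩ := tv_surj n hn
      exact ⟨v, hω⟩
  have pt_smul : ∀ (h : H) (v : V), (h : G) • pt v = pt (h • v) := by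
    intro h v
    rw [hpt, hpt, tv_smul, mul_smul, mul_smul]
    congr 2
    rw [eq_inv_smul_iff]; exact hH0 h
  have pt_add : ∀ (w v : V), tv w • pt v = pt (w + v) := by
    intro w v
    rw [hpt, hpt, tv_add, mul_smul]
  have pt_zero : pt 0 = ω0 := by rw [hpt, tv_zero, one_smul]
  -- decomposition of the elements of `G`
  have hdec : ∀ g : G, ∃ (w : V) (h : H), g = tv w * h := by
    intro g
    obtain ⟨n, hn, hω⟩ := hNt ω0 (g • ω0)
    obtain ⟨v, rfl⟩ := tv_surj n hn
    refine ⟨v, ⟨(tv v)⁻¹ * g, ?_⟩, by simp⟩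
    rw [mem_stabilizer_iff, mul_smul, ← hω, inv_smul_smul]
  have hact : ∀ (w : V) (h : H) (v : V), (tv w * (h : G)) • pt v = pt (w + h • v) := by
    intro w h v
    rw [mul_smul, pt_smul, pt_add]
  -- invariant subgroups
  have hirr : ∀ M : AddSubgroup V, (∀ (h : H), ∀ m ∈ M, h • m ∈ M) → M = ⊥ ∨ M = ⊤ := by
    intro M hM
    by_cases hb : M = ⊥
    · exact Or.inl hb
    right
    let K : Subgroup G :=
      { carrier := tv '' (M : Set V)
        one_mem' := ⟨0, M.zero_mem, tv_zero⟩
        mul_mem' := by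
          rintro _ _ ⟨a, ha, rfl⟩ ⟨b, hb, rfl⟩
          exact ⟨a + b, M.add_mem ha hb, tv_add a b⟩
        inv_mem' := by
          rintro _ ⟨a, ha, rfl⟩
          exact ⟨-a, M.neg_mem ha, tv_neg a⟩ }
    have hKn : K.Normal := by
      refine ⟨?_⟩
      rintro _ ⟨m, hm, rfl⟩ g
      obtain ⟨w, h, rfl⟩ := hdec g
      refine ⟨h • m, hM h m hm, ?_⟩
      have h1 : tv w * tv (h • m) = tv (h • m) * tv w := hNc _ (tv_mem _) _ (tv_mem _)
      calc tv (h • m) = tv w * tv (h • m) * (tv w)⁻¹ := by rw [h1]; group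
        _ = _ := by rw [tv_smul]; group
    have hKb : K ≠ ⊥ := by
      intro h
      apply hb
      rw [eq_bot_iff]
      intro m hm
      have h1 : tv m ∈ K := ⟨m, hm, rfl⟩
      rw [h, Subgroup.mem_bot] at h1
      exact tv_inj (h1.trans tv_zero.symm)
    rw [eq_top_iff]
    intro v _
    obtain ⟨k, ⟨m, hm, rfl⟩, hk⟩ := htrans K hKn hKb ω0 (pt v)
    have h1 : pt m = pt v := hk
    rw [← pt_bij.1 h1]
    exact hm
  have hVnt : Nontrivial V := by
    refine ⟨⟨Additive.ofMul n0, 0, fun h => hn01 ?_⟩⟩
    have := congrArg tv h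
    exact this
  -- exponent
  obtain ⟨p, hp, hexp⟩ : ∃ p : ℕ, p.Prime ∧ ∀ v : V, p • v = 0 := by
    have h1 : Nat.card V ≠ 1 := by
      have := Finite.one_lt_card (α := V)
      omega
    obtain ⟨p, hp, hpd⟩ := Nat.exists_prime_and_dvd h1
    refine ⟨p, hp, ?_⟩
    have hpf := Fact.mk hp
    let M : AddSubgroup V := (nsmulAddMonoidHom (α := V) p).ker
    have hM : M = ⊤ := by
      rcases hirr M (by
        intro h m hm
        rw [AddMonoidHom.mem_ker, nsmulAddMonoidHom_apply] at hm ⊢
        rw [smul_comm, hm, smul_zero]) with h | h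
      · exfalso
        obtain ⟨x, hx⟩ := exists_prime_addOrderOf_dvd_card' p hpd
        have h2 : x ∈ M := by
          rw [AddMonoidHom.mem_ker, nsmulAddMonoidHom_apply, ← hx, addOrderOf_nsmul_eq_zero]
        rw [h, AddSubgroup.mem_bot] at h2
        rw [h2, addOrderOf_zero] at hx
        exact hp.one_lt.ne hx
      · exact h
    intro v
    have h2 : v ∈ M := by rw [hM]; trivial
    exact h2
  have hB : Bin p H V :=
    { prime := hp
      exp := hexp
      faith := by
        intro h hh
        apply Subtype.ext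
        apply hfaith
        intro ω
        obtain ⟨v, rfl⟩ := pt_bij.2 ω
        rw [pt_smul, hh]
      irr := hirr
      bin := by
        intro n I J h1 h2
        rcases Nat.eq_zero_or_pos n with hn | hn
        · subst hn
          exact ⟨1, fun i => i.elim0⟩
        obtain ⟨g, hg⟩ := hbin (n + 1) (Fin.cons ω0 (fun i => pt (I i)))
          (Fin.cons ω0 (fun i => pt (J i))) (by omega) (by
          have aux : ∀ i : Fin n, ∃ g : G, g • ω0 = ω0 ∧ g • pt (I i) = pt (J i) := by
            intro i
            obtain ⟨h, hh⟩ := h1 i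
            exact ⟨h, hH0 h, by rw [pt_smul, hh]⟩
          intro i j hij
          induction i using Fin.cases with
          | zero =>
            induction j using Fin.cases with
            | zero => exact absurd rfl hij
            | succ j =>
              obtain ⟨g, hg1, hg2⟩ := aux j
              exact ⟨g, by simpa using hg1, by simpa using hg2⟩
          | succ i =>
            induction j using Fin.cases with
            | zero =>
              obtain ⟨g, hg1, hg2⟩ := aux i
              exact ⟨g, by simpa using hg2, by simpa using hg1⟩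
            | succ j =>
              obtain ⟨h, hh⟩ := h2 i j
              refine ⟨tv (J i - h • I i) * h, ?_, ?_⟩
              · simp only [Fin.cons_succ]
                rw [hact]; congr 1; abel
              · simp only [Fin.cons_succ]
                rw [hact]; congr 1
                rw [smul_sub] at hh
                have h3 : J i - h • I i = J j - h • I j := by
                  rw [sub_eq_sub_iff_add_eq_add]
                  rw [sub_eq_sub_iff_add_eq_add] at hh
                  rw [add_comm (J j), hh]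
                rw [h3]; abel)
        have hg0 : g • ω0 = ω0 := by simpa using hg 0
        refine ⟨⟨g, hg0⟩, fun i => ?_⟩
        apply pt_bij.1
        rw [← pt_smul]
        simpa using hg i.succ }
  have hfinV : Finite V := inferInstance
  have hcard : Nat.card V = Fintype.card Ω := by
    rw [← Nat.card_eq_fintype_card]; exact Nat.card_congr (Equiv.ofBijective pt pt_bij)
  rcases linear_thm hB with ⟨h1, h2⟩ | hC
  · left
    refine ⟨by rw [← hcard, h1]; exact hp, fun ω => ?_⟩
    obtain ⟨k, hk, rfl⟩ := hNt ω0 ω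
    have h3 : Nat.card ↥(stabilizer G (k • ω0)) = Nat.card H := by
      rw [Nat.card_congr (stabilizerEquivStabilizer (g := k) (a := ω0) (b := k • ω0) rfl).toEquiv]
    rw [h3]; exact h2
  · right
    obtain ⟨F, E, i1, i2, i3, i4, i5, f, hfr, hf1, hf2⟩ := hC
    let e : Ω ≃ E := (Equiv.ofBijective pt pt_bij).symm.trans f.toEquiv
    have he : ∀ v, e (pt v) = f v := by
      intro v
      change f ((Equiv.ofBijective pt pt_bij).symm (pt v)) = f v
      congr 1
      exact (Equiv.ofBijective pt pt_bij).symm_apply_apply v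
    refine ⟨F, E, i1, i2, i3, i4, i5, e, hfr, fun σ => ⟨?_, ?_⟩⟩
    · rintro ⟨g, rfl⟩
      obtain ⟨w, h, rfl⟩ := hdec g
      obtain ⟨a, φ, ha, hφ⟩ := hf1 h
      refine ⟨a, f w, φ, ha, fun ω => ?_⟩
      obtain ⟨v, rfl⟩ := pt_bij.2 ω
      rw [toPermHom_apply, toPerm_apply, hact, he, he, map_add, hφ, add_comm]
    · rintro ⟨a, b, φ, ha, hφ⟩
      obtain ⟨h, hh⟩ := hf2 a φ ha
      obtain ⟨w, rfl⟩ := f.surjective b
      refine ⟨tv w * h, ?_⟩
      apply Equiv.ext
      intro ω
      apply e.injective
      rw [hφ]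
      obtain ⟨v, rfl⟩ := pt_bij.2 ω
      rw [toPermHom_apply, toPerm_apply, hact, he, he, map_add, hh, add_comm]

end Cfsg.Agent.H900.BinLin
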