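import Mathlib
import Cfsg.Agent.H900.BinLin.Line

/-!
# The group `K = C_H(Z)`: uniform part
-/

set_option autoImplicit false
set_option linter.unusedSectionVars false
set_option linter.unusedVariables false

namespace Cfsg.Agent.H900.BinLin

/-- the property (B) of a noncommuting pair `s, t`. -/
def PropB {H : Type*} (V : Type*) [Group H] [AddCommGroup V] [DistribMulAction H V]
    (s t : H) : Prop :=
  ∀ g ∈ KK V s t, ∀ w ∈ Im V g, w ≠ 0 → ∃ τ ∈ KK V s t, τ * τ = 1 ∧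
    (τ ∈ TT H V ∨ U V τ ≤ ZZ V s t) ∧ ∀ v : V, Cj H v (v + w) → τ • v = v + w

/-- uniqueness of the element of `TT ∩ K` fixing a vector outside `Z` -/
def PropU {H : Type*} (V : Type*) [Group H] [AddCommGroup V] [DistribMulAction H V]
    (s t : H) : Prop :=
  ∀ r ∈ TT H V, r ∈ KK V s t → ∀ r' ∈ TT H V, r' ∈ KK V s t → ∀ x : V, x ∉ ZZ V s t →
    r • x = x → r' • x = x → r = r'

/-- the `K`-class of a vector outside `Z` is swept by `TT ∩ K` -/
def PropC {H : Type*} (V : Type*) [Group H] [AddCommGroup V] [DistribMulAction H V]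
    (s t : H) : Prop :=
  ∀ k ∈ KK V s t, ∀ x : V, x ∉ ZZ V s t → ∃ r ∈ TT H V, r ∈ KK V s t ∧ r • x = k • x

theorem card_of_unique {X R : Type*} [Finite X] [Finite R] (P : R → X → Prop)
    (h1 : ∀ x, ∃! r, P r x) (c : ℕ) (h2 : ∀ r, Nat.card {x // P r x} = c) :
    Nat.card X = Nat.card R * c := by
  classical
  choose f hf using h1
  have : Fintype R := Fintype.ofFinite R
  rw [← Nat.card_congr (Equiv.sigmaFiberEquiv f), Nat.card_sigma]
  have h3 : ∀ r : R, Nat.card {x // f x = r} = c := by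
    intro r
    rw [← h2 r]
    refine Nat.card_congr (Equiv.subtypeEquivRight fun x => ?_)
    constructor
    · rintro rfl; exact (hf x).1
    · intro h; exact ((hf x).2 r h).symm
  rw [Finset.sum_congr rfl (fun r _ => h3 r), Finset.sum_const, Nat.card_eq_fintype_card,
    Finset.card_univ, smul_eq_mul]

namespace BinN

variable {p : ℕ} {H V : Type*} [Group H] [AddCommGroup V] [DistribMulAction H V]
  [Finite V] [Finite H]

theorem U_le_of_trans {g τ : H} {w : V} (hw : w ∈ Im V g)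
    (h : ∀ v : V, Cj H v (v + w) → τ • v = v + w) : U V g ≤ U V τ := by
  obtain ⟨x, hx⟩ := mem_Im.mp hw
  have h0 := h x ⟨g, hx⟩
  intro c hc
  rw [mem_U] at hc ⊢
  have h2 : g • (x + c) = (x + c) + w := by rw [smul_add, hx, hc]; abel
  have h3 := h (x + c) ⟨g, h2⟩
  rw [smul_add, h0] at h3
  have h4 : x + w + τ • c = x + w + c := by rw [h3]; abel
  exact add_left_cancel h4

theorem exists_fix_of_B (hB : BinN p H V) {s t : H} (hs : s ∈ TT H V) (ht : t ∈ TT H V)
    (hst : s * t ≠ t * s) (hPB : PropB V s t) {x : V} (hx : x ∉ ZZ V s t) :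
    ∃ r ∈ TT H V, r ∈ KK V s t ∧ r • x = x := by
  by_contra hno
  push Not at hno
  -- every element of `K` fixing `x` is trivial
  have h1 : ∀ g ∈ KK V s t, g • x = x → g = 1 := by
    intro g hg hgx
    by_contra hg1
    obtain ⟨w, hw, hw0⟩ := hB.Im_ne_bot hg1
    obtain ⟨τ, hτK, hτ, hor, htr⟩ := hPB g hg w hw hw0
    have hle := U_le_of_trans hw htr
    have hxτ : x ∈ U V τ := hle (mem_U.mpr hgx)
    rcases hor with h | h
    · exact hno τ h hτK (mem_U.mp hxτ)
    · exact hx (h hxτ)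
  have h2 : ∀ g ∈ KK V s t, g * g = 1 := by
    intro g hg
    by_cases hg1 : g = 1
    · rw [hg1, one_mul]
    have hgx : g • x - x ≠ 0 := fun h => hg1 (h1 g hg (sub_eq_zero.mp h))
    obtain ⟨τ, hτK, hτ, hor, htr⟩ := hPB g hg _ (sub_mem_Im g x) hgx
    have h3 : τ • x = g • x := by
      have := htr x ⟨g, by abel⟩
      rw [this]; abel
    have h4 : g⁻¹ * τ = 1 := by
      apply h1 _ ((KK V s t).mul_mem ((KK V s t).inv_mem hg) hτK)
      rw [mul_smul, h3, inv_smul_smul]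
    have h5 : τ = g := by
      have : τ = g * (g⁻¹ * τ) := by group
      rw [this, h4, mul_one]
    rwa [h5] at hτ
  apply hst
  have hs2 := h2 s (left_mem_KK s t)
  have ht2 := h2 t (right_mem_KK s t)
  have hst2 := h2 (s * t) ((KK V s t).mul_mem (left_mem_KK s t) (right_mem_KK s t))
  have e1 : s⁻¹ = s := inv_eq_of_mul_eq_one_left hs2
  have e2 : t⁻¹ = t := inv_eq_of_mul_eq_one_left ht2
  have e3 : (s * t)⁻¹ = s * t := inv_eq_of_mul_eq_one_left hst2
  rw [← e3, mul_inv_rev, e1, e2]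

theorem stab_of_B (hB : BinN p H V) {s t : H} (hs : s ∈ TT H V) (ht : t ∈ TT H V)
    (hst : s * t ≠ t * s) (hPB : PropB V s t) (hPU : PropU V s t) {r : H} (hr : r ∈ TT H V)
    (hrK : r ∈ KK V s t) {x : V} (hx : x ∉ ZZ V s t) (hrx : r • x = x) {k : H}
    (hk : k ∈ KK V s t) (hkx : k • x = x) : k = 1 ∨ k = r := by
  have h1 : ∀ v : V, k • v = v ∨ k • v = r • v := by
    intro v
    by_cases hv : k • v = v
    · exact Or.inl hv
    · right
      have hw0 : k • v - v ≠ 0 := fun h => hv (sub_eq_zero.mp h)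
      obtain ⟨τ, hτK, hτ, hor, htr⟩ := hPB k hk _ (sub_mem_Im k v) hw0
      have hle := U_le_of_trans (sub_mem_Im k v) htr
      have hxτ : x ∈ U V τ := hle (mem_U.mpr hkx)
      have h3 : τ • v = k • v := by
        have := htr v ⟨k, by abel⟩
        rw [this]; abel
      rcases hor with h | h
      · rw [hPU τ h hτK r hr hrK x hx (mem_U.mp hxτ) hrx] at h3
        exact h3.symm
      · exact absurd (h hxτ) hx
  by_contra hno
  push Not at hno
  obtain ⟨v1, hv1⟩ : ∃ v : V, k • v ≠ v := by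
    by_contra h
    push Not at h
    exact hno.1 (hB.faith k h)
  obtain ⟨v2, hv2⟩ : ∃ v : V, k • v ≠ r • v := by
    by_contra h
    push Not at h
    apply hno.2
    have : r⁻¹ * k = 1 := by
      apply hB.faith
      intro v
      rw [mul_smul, h v, inv_smul_smul]
    calc k = r * (r⁻¹ * k) := by group
      _ = r := by rw [this, mul_one]
  have a1 : k • v1 = r • v1 := (h1 v1).resolve_left hv1
  have a2 : k • v2 = v2 := (h1 v2).resolve_right hv2
  rcases h1 (v1 + v2) with h | h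
  · rw [smul_add, a2] at h
    exact hv1 (add_right_cancel h)
  · rw [smul_add, smul_add, a1] at h
    exact hv2 (add_left_cancel h)

/-- the data obtained for a noncommuting pair -/
structure Good (V : Type*) {H : Type*} [Group H] [AddCommGroup V] [DistribMulAction H V]
    (s t : H) : Prop where
  hU : PropU V s t
  hC : PropC V s t
  hS : ∀ r ∈ TT H V, r ∈ KK V s t → ∀ x : V, x ∉ ZZ V s t → r • x = x → ∀ k ∈ KK V s t,
    k • x = x → k = 1 ∨ k = r

theorem TT_inj (hB : BinN p H V) {s t : H} (hG : Good V s t) {r r' : H} (hr : r ∈ TT H V)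
    (hrK : r ∈ KK V s t) (hr' : r' ∈ TT H V) (hrK' : r' ∈ KK V s t) {x : V}
    (hx : x ∉ ZZ V s t) (h : r • x = r' • x) : r = r' := by
  by_cases h0 : r • x = x
  · exact hG.hU r hr hrK r' hr' hrK' x hx h0 (h ▸ h0)
  · refine hB.TT_unique hr hr' (w := r • x - x) (fun h1 => h0 (sub_eq_zero.mp h1))
      (sub_mem_Im r x) ?_
    rw [h]
    exact sub_mem_Im r' x

theorem exists_not_mem_ZZ (hB : BinN p H V) {s t : H} (hs : s ∈ TT H V) (ht : t ∈ TT H V)
    (hst : s * t ≠ t * s) {r : H} (hr : r ∈ TT H V) (hrK : r ∈ KK V s t) :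
    ∃ x ∈ U V r, x ∉ ZZ V s t := by
  by_contra hno
  push Not at hno
  have h1 : Nat.card (U V r) ≤ Nat.card (ZZ V s t) := Nat.card_mono (Set.toFinite _) hno
  rw [hB.card_U_K hs ht hst hr hrK] at h1
  have h2 := hB.one_lt_card_Im hs.1
  have h3 : 0 < Nat.card (ZZ V s t) := Nat.card_pos
  nlinarith

theorem TT_inv_mem (hB : BinN p H V) {g : H} (hg : g⁻¹ ∈ TT H V) : g ∈ TT H V := by
  have := hB.TT_inv hg
  rw [inv_inv] at this
  rwa [this]

/-- the rotations -/
def KP (hB : BinN p H V) {s t : H} (hs : s ∈ TT H V) (ht : t ∈ TT H V)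
    (hst : s * t ≠ t * s) (hG : Good V s t) : Subgroup H where
  carrier := {k | k ∈ KK V s t ∧ k ∉ TT H V}
  one_mem' := ⟨(KK V s t).one_mem, fun h => h.1 rfl⟩
  inv_mem' := by
    rintro a ⟨ha, ha'⟩
    exact ⟨(KK V s t).inv_mem ha, fun h => ha' (hB.TT_inv_mem h)⟩
  mul_mem' := by
    rintro a b ⟨ha, ha'⟩ ⟨hb, hb'⟩
    refine ⟨(KK V s t).mul_mem ha hb, fun hab => ?_⟩
    have habK : a * b ∈ KK V s t := (KK V s t).mul_mem ha hb
    obtain ⟨x, hxU, hxZ⟩ := hB.exists_not_mem_ZZ hs ht hst hab habK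
    have hx1 : (a * b) • x = x := mem_U.mp hxU
    obtain ⟨r, hr, hrK, hrx⟩ := hG.hC b hb x hxZ
    have h1 : b • x = a⁻¹ • x := by
      rw [eq_inv_smul_iff, ← mul_smul, hx1]
    -- `b⁻¹ r` fixes `x`
    have key : ∀ c ∈ KK V s t, c ∉ TT H V → c • x = r • x → c = r * (a * b) := by
      intro c hc hc' hcx
      have h2 : (r⁻¹ * c) • x = x := by rw [mul_smul, hcx, inv_smul_smul]
      rcases hG.hS (a * b) hab habK x hxZ hx1 (r⁻¹ * c)
        ((KK V s t).mul_mem ((KK V s t).inv_mem hrK) hc) h2 with h3 | h3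
      · exfalso
        have : c = r := by
          calc c = r * (r⁻¹ * c) := by group
            _ = r := by rw [h3, mul_one]
        exact hc' (this ▸ hr)
      · rw [← h3]; group
    have e1 := key b hb hb' hrx.symm
    have e2 := key a⁻¹ ((KK V s t).inv_mem ha) (fun h => ha' (hB.TT_inv_mem h))
      (by rw [← h1, hrx])
    have e3 : b = a⁻¹ := by rw [e1, ← e2]
    apply hab.1
    rw [e3, mul_inv_cancel]

theorem mem_KP (hB : BinN p H V) {s t : H} (hs : s ∈ TT H V) (ht : t ∈ TT H V)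
    (hst : s * t ≠ t * s) (hG : Good V s t) {k : H} :
    k ∈ hB.KP hs ht hst hG ↔ k ∈ KK V s t ∧ k ∉ TT H V := Iff.rfl

/-- `KP` is semiregular outside `Z`. -/
theorem KP_semireg (hB : BinN p H V) {s t : H} (hs : s ∈ TT H V) (ht : t ∈ TT H V)
    (hst : s * t ≠ t * s) (hG : Good V s t) {k : H} (hk : k ∈ hB.KP hs ht hst hG)
    {x : V} (hx : x ∉ ZZ V s t) (hkx : k • x = x) : k = 1 := by
  obtain ⟨r, hr, hrK, hrx⟩ := hG.hC 1 (KK V s t).one_mem x hx
  rw [one_smul] at hrx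
  rcases hG.hS r hr hrK x hx hrx k hk.1 hkx with h | h
  · exact h
  · exact absurd (h ▸ hr) hk.2

theorem mul_KP (hB : BinN p H V) {s t : H} (hs : s ∈ TT H V) (ht : t ∈ TT H V)
    (hst : s * t ≠ t * s) (hG : Good V s t) {r k : H} (hr : r ∈ TT H V) (hrK : r ∈ KK V s t)
    (hk : k ∈ hB.KP hs ht hst hG) : r * k ∈ TT H V ∧ r * k ∈ KK V s t := by
  have h1 : r * k ∈ KK V s t := (KK V s t).mul_mem hrK hk.1
  refine ⟨?_, h1⟩
  by_contra hno
  have h2 : r * k ∈ hB.KP hs ht hst hG := ⟨h1, hno⟩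
  have h3 := (hB.KP hs ht hst hG).mul_mem h2 ((hB.KP hs ht hst hG).inv_mem hk)
  rw [mul_inv_cancel_right] at h3
  exact h3.2 hr

/-- the number of elements of `TT ∩ K`. -/
theorem card_TTK (hB : BinN p H V) {s t : H} (hs : s ∈ TT H V) (ht : t ∈ TT H V)
    (hst : s * t ≠ t * s) (hG : Good V s t) :
    Nat.card {r : H // r ∈ TT H V ∧ r ∈ KK V s t} = Nat.card (Im V s) + 1 := by
  set q := Nat.card (Im V s) with hq
  set m := Nat.card (ZZ V s t) with hm
  have hq1 : 1 < q := hB.one_lt_card_Im hs.1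
  have hm0 : 0 < m := Nat.card_pos
  have h1 := card_of_unique (X := {x : V // x ∉ ZZ V s t})
    (R := {r : H // r ∈ TT H V ∧ r ∈ KK V s t}) (fun r x => r.1 • x.1 = x.1) (by
      rintro ⟨x, hx⟩
      obtain ⟨r, hr, hrK, hrx⟩ := hG.hC 1 (KK V s t).one_mem x hx
      rw [one_smul] at hrx
      exact ⟨⟨r, hr, hrK⟩, hrx, fun r' hr' =>
        Subtype.ext (hG.hU r'.1 r'.2.1 r'.2.2 r hr hrK x hx hr' hrx)⟩) (q * m - m) (by
      rintro ⟨r, hr, hrK⟩
      have e : {x : {x : V // x ∉ ZZ V s t} // r • x.1 = x.1} ≃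
          {x : V // x ∈ (U V r : Set V) \ (ZZ V s t : Set V)} :=
        { toFun := fun x => ⟨x.1.1, mem_U.mpr x.2, x.1.2⟩
          invFun := fun x => ⟨⟨x.1, x.2.2⟩, mem_U.mp x.2.1⟩
          left_inv := fun x => rfl
          right_inv := fun x => rfl }
      rw [Nat.card_congr e]
      change Nat.card ↥((U V r : Set V) \ (ZZ V s t : Set V)) = _
      rw [Nat.card_coe_set_eq, Set.ncard_sdiff (mem_KK_iff_le.mp hrK) (Set.toFinite _),
        ← Nat.card_coe_set_eq, ← Nat.card_coe_set_eq]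
      have := hB.card_U_K hs ht hst hr hrK
      rw [← hq, ← hm] at this
      change Nat.card (U V r) - Nat.card (ZZ V s t) = _
      rw [this])
  have h2 : Nat.card {x : V // x ∉ ZZ V s t} = q * q * m - m := by
    have e : {x : V // x ∉ ZZ V s t} ≃ {x : V // x ∈ (Set.univ : Set V) \ (ZZ V s t : Set V)} :=
      { toFun := fun x => ⟨x.1, trivial, x.2⟩
        invFun := fun x => ⟨x.1, x.2.2⟩
        left_inv := fun x => rfl
        right_inv := fun x => rfl }
    rw [Nat.card_congr e]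
    change Nat.card ↥((Set.univ : Set V) \ (ZZ V s t : Set V)) = _
    rw [Nat.card_coe_set_eq, Set.ncard_sdiff (Set.subset_univ _) (Set.toFinite _), Set.ncard_univ,
      ← Nat.card_coe_set_eq, hB.card_V hs ht hst]
    rfl
  rw [h2] at h1
  have h3 : q * q * m - m = (q + 1) * (q * m - m) := by
    obtain ⟨a, ha⟩ : ∃ a, q = a + 1 := ⟨q - 1, by omega⟩
    rw [ha]
    have e1 : (a + 1) * (a + 1) * m - m = (a + 1 + 1) * a * m := by
      have : (a + 1) * (a + 1) * m = (a + 1 + 1) * a * m + m := by ring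
      omega
    have e2 : (a + 1) * m - m = a * m := by
      have : (a + 1) * m = a * m + m := by ring
      omega
    rw [e1, e2, mul_assoc]
  rw [h3] at h1
  have h4 : 0 < q * m - m := by
    have : m < q * m := by nlinarith
    omega
  exact (Nat.eq_of_mul_eq_mul_right h4 h1).symm

theorem card_KP (hB : BinN p H V) {s t : H} (hs : s ∈ TT H V) (ht : t ∈ TT H V)
    (hst : s * t ≠ t * s) (hG : Good V s t) :
    Nat.card (hB.KP hs ht hst hG) = Nat.card (Im V s) + 1 := by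
  rw [← hB.card_TTK hs ht hst hG]
  refine Nat.card_congr
    { toFun := fun k => ⟨s * k.1, hB.mul_KP hs ht hst hG hs (left_mem_KK s t) k.2⟩
      invFun := fun r => ⟨s⁻¹ * r.1, ?_⟩
      left_inv := fun k => by simp
      right_inv := fun r => by simp }
  have hK := (KK V s t).mul_mem ((KK V s t).inv_mem (left_mem_KK s t)) r.2.2
  refine ⟨hK, fun hmem => ?_⟩
  obtain ⟨x, hxU, hxZ⟩ := hB.exists_not_mem_ZZ hs ht hst hmem hK
  have h1 : (s⁻¹ * r.1) • x = x := mem_U.mp hxU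
  rw [mul_smul, inv_smul_eq_iff] at h1
  have h2 := hB.TT_inj hG r.2.1 r.2.2 hs (left_mem_KK s t) hxZ h1
  apply hmem.1
  rw [h2, inv_mul_cancel]

/-- the averaging map -/
noncomputable def nu (hB : BinN p H V) {s t : H} (hs : s ∈ TT H V) (ht : t ∈ TT H V)
    (hst : s * t ≠ t * s) (hG : Good V s t) : V →+ V :=
  haveI := Fintype.ofFinite (hB.KP hs ht hst hG)
  ∑ k : hB.KP hs ht hst hG, DistribSMul.toAddMonoidHom V (k : H)

theorem nu_apply (hB : BinN p H V) {s t : H} (hs : s ∈ TT H V) (ht : t ∈ TT H V)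
    (hst : s * t ≠ t * s) (hG : Good V s t) [Fintype (hB.KP hs ht hst hG)] (v : V) :
    hB.nu hs ht hst hG v = ∑ k : hB.KP hs ht hst hG, (k : H) • v := by
  unfold nu
  rw [AddMonoidHom.finsetSum_apply]
  convert rfl using 1
  apply Finset.sum_congr
  · ext; simp
  · intro x _; rfl

theorem nu_mem (hB : BinN p H V) {s t : H} (hs : s ∈ TT H V) (ht : t ∈ TT H V)
    (hst : s * t ≠ t * s) (hG : Good V s t) (v : V) : hB.nu hs ht hst hG v ∈ ZZ V s t := by
  have := Fintype.ofFinite (hB.KP hs ht hst hG)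
  by_contra hno
  -- `KP` is nontrivial
  have hcard : 1 < Nat.card (hB.KP hs ht hst hG) := by
    rw [hB.card_KP hs ht hst hG]
    have := hB.one_lt_card_Im hs.1
    omega
  rw [Finite.one_lt_card_iff_nontrivial] at hcard
  obtain ⟨k, hk⟩ := exists_ne (1 : hB.KP hs ht hst hG)
  have h1 : (k : H) • hB.nu hs ht hst hG v = hB.nu hs ht hst hG v := by
    rw [nu_apply, Finset.smul_sum]
    simp_rw [← mul_smul]
    exact Fintype.sum_equiv (Equiv.mulLeft k) _ _ (fun x => rfl)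
  have h2 := hB.KP_semireg hs ht hst hG k.2 hno h1
  exact hk (Subtype.ext h2)

theorem card_Im_eq_pow (hB : BinN p H V) (g : H) : ∃ n : ℕ, Nat.card (Im V g) = p ^ n := by
  have : Fact p.Prime := ⟨hB.prime⟩
  have h1 : IsPGroup p (Multiplicative (Im V g)) := by
    intro x
    refine ⟨1, ?_⟩
    rw [pow_one]
    apply Multiplicative.toAdd.injective
    rw [toAdd_pow, toAdd_one]
    exact Subtype.ext (hB.exp _)
  obtain ⟨n, hn⟩ := (IsPGroup.iff_card).mp h1
  exact ⟨n, hn⟩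

theorem card_Im_nsmul (hB : BinN p H V) {g : H} (hg : g ≠ 1) (v : V) : Nat.card (Im V g) • v = 0 := by
  obtain ⟨n, hn⟩ := hB.card_Im_eq_pow g
  have h1 := hB.one_lt_card_Im hg
  rw [hn] at h1 ⊢
  cases n with
  | zero => simp at h1
  | succ n => rw [pow_succ, mul_nsmul, hB.exp]

theorem nu_ZZ (hB : BinN p H V) {s t : H} (hs : s ∈ TT H V) (ht : t ∈ TT H V)
    (hst : s * t ≠ t * s) (hG : Good V s t) {z : V} (hz : z ∈ ZZ V s t) :
    hB.nu hs ht hst hG z = z := by
  have := Fintype.ofFinite (hB.KP hs ht hst hG)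
  rw [nu_apply]
  have h1 : ∀ k : hB.KP hs ht hst hG, (k : H) • z = z := fun k => k.2.1 z hz
  rw [Finset.sum_congr rfl (fun k _ => h1 k), Finset.sum_const, Finset.card_univ,
    ← Nat.card_eq_fintype_card, hB.card_KP hs ht hst hG, add_nsmul, hB.card_Im_nsmul hs.1,
    zero_add, one_nsmul]

theorem nu_smul (hB : BinN p H V) {s t : H} (hs : s ∈ TT H V) (ht : t ∈ TT H V)
    (hst : s * t ≠ t * s) (hG : Good V s t) {k : H} (hk : k ∈ KK V s t) (v : V) :
    hB.nu hs ht hst hG (k • v) = hB.nu hs ht hst hG v := by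
  have := Fintype.ofFinite (hB.KP hs ht hst hG)
  -- `k` fixes `ν v` and normalizes `KP`
  have h0 : k • hB.nu hs ht hst hG v = hB.nu hs ht hst hG v := hk _ (hB.nu_mem hs ht hst hG v)
  rw [← h0, nu_apply, nu_apply, Finset.smul_sum]
  have hconj : ∀ x : hB.KP hs ht hst hG, k⁻¹ * (x : H) * k ∈ hB.KP hs ht hst hG := by
    intro x
    refine ⟨(KK V s t).mul_mem ((KK V s t).mul_mem ((KK V s t).inv_mem hk) x.2.1) hk, fun h => ?_⟩
    apply x.2.2
    have := TT_conj h k
    convert this using 1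
    group
  have hconj' : ∀ x : hB.KP hs ht hst hG, k * (x : H) * k⁻¹ ∈ hB.KP hs ht hst hG := by
    intro x
    refine ⟨(KK V s t).mul_mem ((KK V s t).mul_mem hk x.2.1) ((KK V s t).inv_mem hk), fun h => ?_⟩
    apply x.2.2
    have := TT_conj h k⁻¹
    convert this using 1
    group
  let e : hB.KP hs ht hst hG ≃ hB.KP hs ht hst hG :=
    { toFun := fun x => ⟨k⁻¹ * (x : H) * k, hconj x⟩
      invFun := fun x => ⟨k * (x : H) * k⁻¹, hconj' x⟩
      left_inv := fun x => Subtype.ext (by simp only; group)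
      right_inv := fun x => Subtype.ext (by simp only; group) }
  refine Fintype.sum_equiv e _ _ (fun x => ?_)
  change (x : H) • k • v = k • (k⁻¹ * (x : H) * k) • v
  rw [← mul_smul, ← mul_smul]
  congr 1
  group

theorem nu_sub (hB : BinN p H V) {s t : H} (hs : s ∈ TT H V) (ht : t ∈ TT H V)
    (hst : s * t ≠ t * s) (hG : Good V s t) {g : H} (hg : g ∈ KK V s t) (v : V) :
    hB.nu hs ht hst hG (g • v - v) = 0 := by
  rw [map_sub, hB.nu_smul hs ht hst hG hg, sub_self]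

theorem nu_YY (hB : BinN p H V) {s t : H} (hs : s ∈ TT H V) (ht : t ∈ TT H V)
    (hst : s * t ≠ t * s) (hG : Good V s t) {y : V} (hy : y ∈ YY V s t) :
    hB.nu hs ht hst hG y = 0 := by
  obtain ⟨a, ha, b, hb, rfl⟩ := mem_YY.mp hy
  obtain ⟨x, hx⟩ := mem_Im.mp ha
  obtain ⟨x', hx'⟩ := mem_Im.mp hb
  have e1 : a = s • x - x := by rw [hx]; abel
  have e2 : b = t • x' - x' := by rw [hx']; abel
  rw [map_add, e1, e2, hB.nu_sub hs ht hst hG (left_mem_KK s t),
    hB.nu_sub hs ht hst hG (right_mem_KK s t), add_zero]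

/-- the image of `k - 1` lies in `Y` for `k ∈ K`. -/
theorem sub_mem_YY (hB : BinN p H V) {s t : H} (hs : s ∈ TT H V) (ht : t ∈ TT H V)
    (hst : s * t ≠ t * s) (hG : Good V s t) {k : H} (hk : k ∈ KK V s t) (v : V) :
    k • v - v ∈ YY V s t := by
  obtain ⟨y, hy, z, hz, hyz⟩ := hB.exists_decomp hs ht hst (k • v - v)
  have h3 := hB.nu_sub hs ht hst hG hk v
  rw [hyz, map_add, hB.nu_YY hs ht hst hG hy, hB.nu_ZZ hs ht hst hG hz, zero_add] at h3
  rw [hyz, h3, add_zero]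
  exact hy

/-- for `y ∈ Y` nonzero and `z ∈ Z` nonzero, `y` and `y + z` are not conjugate. -/
theorem not_cj_add (hB : BinN p H V) {s t : H} (hs : s ∈ TT H V) (ht : t ∈ TT H V)
    (hst : s * t ≠ t * s) (hG : Good V s t) {y z : V} (hy : y ∈ YY V s t) (hz : z ∈ ZZ V s t)
    (hz0 : z ≠ 0) : ¬ Cj H y (y + z) := by
  intro hcj
  have := Fintype.ofFinite (hB.KP hs ht hst hG)
  obtain ⟨τ, _, hτ⟩ := hB.exists_inv z
  have h1 : ∀ k : hB.KP hs ht hst hG, τ • ((k : H) • y) = (k : H) • y + z := by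
    intro k
    rw [← hτ]
    have h2 := hcj.smul_smul (k : H)
    rwa [smul_add, k.2.1 z hz] at h2
  have h2 : τ • hB.nu hs ht hst hG y = hB.nu hs ht hst hG y + z := by
    rw [nu_apply, Finset.smul_sum, Finset.sum_congr rfl (fun k _ => h1 k),
      Finset.sum_add_distrib, Finset.sum_const, Finset.card_univ, ← Nat.card_eq_fintype_card,
      hB.card_KP hs ht hst hG, add_nsmul, hB.card_Im_nsmul hs.1, zero_add, one_nsmul]
  rw [hB.nu_YY hs ht hst hG hy, smul_zero, zero_add] at h2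
  exact hz0 h2.symm

theorem Im_le_YY (hB : BinN p H V) {s t : H} (hs : s ∈ TT H V) (ht : t ∈ TT H V)
    (hst : s * t ≠ t * s) (hG : Good V s t) {r : H} (hr : r ∈ KK V s t) : Im V r ≤ YY V s t := by
  intro w hw
  obtain ⟨x, hx⟩ := mem_Im.mp hw
  have e1 : w = r • x - x := by rw [hx]; abel
  rw [e1]
  exact hB.sub_mem_YY hs ht hst hG hr x

theorem smul_mem_YY (hB : BinN p H V) {s t : H} (hs : s ∈ TT H V) (ht : t ∈ TT H V)
    (hst : s * t ≠ t * s) (hG : Good V s t) {k : H} (hk : k ∈ KK V s t) {y : V}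
    (hy : y ∈ YY V s t) : k • y ∈ YY V s t := by
  have h1 := hB.sub_mem_YY hs ht hst hG hk y
  have : k • y = (k • y - y) + y := by abel
  rw [this]
  exact (YY V s t).add_mem h1 hy

/-- every nonzero vector of `Y` is in the image of a unique element of `TT ∩ K`. -/
theorem exists_mem_Im (hB : BinN p H V) {s t : H} (hs : s ∈ TT H V) (ht : t ∈ TT H V)
    (hst : s * t ≠ t * s) (hG : Good V s t) {y : V} (hy : y ∈ YY V s t) (hy0 : y ≠ 0) :
    ∃ r ∈ TT H V, r ∈ KK V s t ∧ y ∈ Im V r := by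
  by_contra hno
  push Not at hno
  have hq1 : 1 < Nat.card (Im V s) := hB.one_lt_card_Im hs.1
  -- count
  have h1 := card_of_unique
    (X := {x : V // x ≠ 0 ∧ ∃ r ∈ TT H V, r ∈ KK V s t ∧ x ∈ Im V r})
    (R := {r : H // r ∈ TT H V ∧ r ∈ KK V s t}) (fun r x => x.1 ∈ Im V r.1) (by
      rintro ⟨x, hx0, r, hr, hrK, hrx⟩
      exact ⟨⟨r, hr, hrK⟩, hrx, fun r' hr' =>
        Subtype.ext (hB.TT_unique r'.2.1 hr hx0 hr' hrx)⟩) (Nat.card (Im V s) - 1) (by
      rintro ⟨r, hr, hrK⟩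
      have e : {x : {x : V // x ≠ 0 ∧ ∃ r ∈ TT H V, r ∈ KK V s t ∧ x ∈ Im V r} // x.1 ∈ Im V r} ≃
          {x : V // x ∈ (Im V r : Set V) \ {0}} :=
        { toFun := fun x => ⟨x.1.1, x.2, x.1.2.1⟩
          invFun := fun x => ⟨⟨x.1, x.2.2, r, hr, hrK, x.2.1⟩, x.2.1⟩
          left_inv := fun x => rfl
          right_inv := fun x => rfl }
      rw [Nat.card_congr e]
      change Nat.card ↥((Im V r : Set V) \ {0}) = _
      rw [Nat.card_coe_set_eq, Set.ncard_sdiff (by simp) (Set.toFinite _),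
        ← Nat.card_coe_set_eq, Set.ncard_singleton]
      change Nat.card (Im V r) - 1 = _
      rw [hB.card_Im_K hs ht hst hr hrK])
  rw [hB.card_TTK hs ht hst hG] at h1
  have h2 : Nat.card {x : V // x ≠ 0 ∧ ∃ r ∈ TT H V, r ∈ KK V s t ∧ x ∈ Im V r} <
      Nat.card (Im V s) * Nat.card (Im V s) - 1 := by
    have e : {x : V // x ≠ 0 ∧ ∃ r ∈ TT H V, r ∈ KK V s t ∧ x ∈ Im V r} ≃
        ({x : V | x ≠ 0 ∧ ∃ r ∈ TT H V, r ∈ KK V s t ∧ x ∈ Im V r} : Set V) := Equiv.refl _
    rw [Nat.card_congr e, Nat.card_coe_set_eq]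
    have h3 : Set.ncard ((YY V s t : Set V) \ {0}) = Nat.card (Im V s) * Nat.card (Im V s) - 1 := by
      rw [Set.ncard_sdiff (by simp) (Set.toFinite _),
        ← Nat.card_coe_set_eq, Set.ncard_singleton]
      change Nat.card (YY V s t) - 1 = _
      rw [hB.card_YY hs ht hst]
    rw [← h3]
    apply Set.ncard_lt_ncard _ (Set.toFinite _)
    refine ⟨?_, fun hle => ?_⟩
    · rintro x ⟨hx0, r, hr, hrK, hrx⟩
      exact ⟨hB.Im_le_YY hs ht hst hG hrK hrx, hx0⟩
    · obtain ⟨_, r, hr, hrK, hrx⟩ := hle ⟨hy, hy0⟩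
      exact hno r hr hrK hrx
  rw [h1] at h2
  obtain ⟨a, ha⟩ : ∃ a, Nat.card (Im V s) = a + 1 := ⟨Nat.card (Im V s) - 1, by omega⟩
  rw [ha] at h2
  have e1 : (a + 1 + 1) * (a + 1 - 1) = (a + 1) * (a + 1) - 1 := by
    have : (a + 1) * (a + 1) = (a + 1 + 1) * a + 1 := by ring
    rw [this]; simp
  omega

end BinN

end Cfsg.Agent.H900.BinLin
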