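import Mathlib
import Cfsg.Agent.H900.BinLin.Cover

/-!
# Identification with a field
-/

set_option autoImplicit false
set_option linter.unusedSectionVars false
set_option linter.unusedVariables false

namespace Cfsg.Agent.H900.BinLin

variable {H V : Type*} [Group H] [AddCommGroup V] [DistribMulAction H V] [Finite V]

theorem pow_arith {p c m : ℕ} (hp : 1 < p) (hc : 0 < c) (hm : 0 < m) (hm2 : m ≤ c + c)
    (hd : (p ^ c + 1) ∣ (p ^ m - 1)) : m = c + c := by
  have h0 : 1 < p ^ m := Nat.one_lt_pow (by omega) hp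
  rcases le_or_gt m c with h | h
  · exfalso
    have h1 := Nat.le_of_dvd (by omega) hd
    have h2 : p ^ m ≤ p ^ c := Nat.pow_le_pow_right (by omega) h
    omega
  · obtain ⟨d, rfl⟩ : ∃ d, m = c + d := ⟨m - c, by omega⟩
    have h1 : p ^ (c + d) - 1 + (p ^ d + 1) = (p ^ c + 1) * p ^ d := by
      rw [pow_add] at h0 ⊢
      have : p ^ c * p ^ d - 1 + (p ^ d + 1) = p ^ c * p ^ d + p ^ d := by omega
      rw [this]; ring
    have h2 : (p ^ c + 1) ∣ (p ^ d + 1) := by
      have h3 : (p ^ c + 1) ∣ p ^ (c + d) - 1 + (p ^ d + 1) := h1 ▸ Dvd.intro _ rfl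
      exact (Nat.dvd_add_right hd).mp h3
    have h3 := Nat.le_of_dvd (by omega) h2
    have h4 : c ≤ d := by
      by_contra hlt
      push Not at hlt
      have := Nat.pow_lt_pow_right hp hlt
      omega
    omega

/-- irreducibility under a large semiregular group -/
theorem irr_of_card {p c : ℕ} (hp : p.Prime) (hc : 0 < c) (P : Subgroup H)
    (hPc : Nat.card P = p ^ c + 1) (hV : Nat.card V = p ^ c * p ^ c)
    (hfree : ∀ k ∈ P, ∀ x : V, x ≠ 0 → k • x = x → k = 1) (M : AddSubgroup V)
    (hM : ∀ k ∈ P, ∀ m ∈ M, k • m ∈ M) : M = ⊥ ∨ M = ⊤ := by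
  classical
  by_cases hbot : M = ⊥
  · exact Or.inl hbot
  right
  obtain ⟨m, hm2, hm⟩ : ∃ m ≤ c + c, Nat.card M = p ^ m := by
    rw [← Nat.dvd_prime_pow hp, pow_add, ← hV]
    exact AddSubgroup.card_addSubgroup_dvd_card M
  have hm0 : 0 < m := by
    rcases Nat.eq_zero_or_pos m with h | h
    · exfalso; apply hbot
      rw [h, pow_zero] at hm
      exact AddSubgroup.eq_bot_of_card_le _ hm.le
    · exact h
  have hdiv : (p ^ c + 1) ∣ (p ^ m - 1) := by
    let X' := {x : V // x ∈ M ∧ x ≠ 0}
    have cX : Nat.card X' = p ^ m - 1 := by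
      have h1 : Nat.card X' = ((M : Set V) \ {0}).ncard := by
        rw [← Nat.card_coe_set_eq]; rfl
      rw [h1, Set.ncard_sdiff (by simp) (Set.toFinite _), ← Nat.card_coe_set_eq,
        Set.ncard_singleton]
      change Nat.card M - 1 = _
      rw [hm]
    let S : Setoid X' := ⟨fun x y => ∃ k ∈ P, k • x.1 = y.1, fun x => ⟨1, P.one_mem, one_smul _ _⟩,
      by
        rintro x y ⟨k, hk, h⟩
        exact ⟨k⁻¹, P.inv_mem hk, by rw [← h, inv_smul_smul]⟩, by
        rintro x y z ⟨k, hk, h⟩ ⟨l, hl, h'⟩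
        exact ⟨l * k, P.mul_mem hl hk, by rw [mul_smul, h, h']⟩⟩
    have h1 : Nat.card X' = Nat.card (Quotient S) * (p ^ c + 1) := by
      refine card_of_unique (fun (r : Quotient S) (x : X') => Quotient.mk S x = r)
        (fun x => ⟨Quotient.mk S x, rfl, fun r hr => hr.symm⟩) _ ?_
      intro r
      induction r using Quotient.inductionOn with
      | h x =>
        rw [← hPc]
        symm
        refine Nat.card_congr (Equiv.ofBijective (fun k : P =>
          (⟨⟨(k : H) • x.1, hM k k.2 _ x.2.1, (smul_ne_zero_iff_ne _).mpr x.2.2⟩,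
            Quotient.sound (s := S) ⟨(k : H)⁻¹, P.inv_mem k.2, inv_smul_smul _ _⟩⟩ :
            {y : X' // Quotient.mk S y = Quotient.mk S x})) ⟨?_, ?_⟩)
        · intro k l hkl
          have h1 : (k : H) • x.1 = (l : H) • x.1 := congrArg (fun z => z.1.1) hkl
          have h2 : ((l : H)⁻¹ * k) • x.1 = x.1 := by rw [mul_smul, h1, inv_smul_smul]
          have h3 := hfree _ (P.mul_mem (P.inv_mem l.2) k.2) x.1 x.2.2 h2
          apply Subtype.ext
          rw [← mul_left_cancel_iff (a := (l : H)⁻¹), h3, inv_mul_cancel]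
        · rintro ⟨y, hy⟩
          obtain ⟨k, hk, hky⟩ := Quotient.exact hy.symm
          exact ⟨⟨k, hk⟩, Subtype.ext (Subtype.ext hky)⟩
    rw [← cX, h1]
    exact Dvd.intro_left _ rfl
  have := pow_arith hp.one_lt hc hm0 hm2 hdiv
  apply AddSubgroup.eq_top_of_card_eq
  rw [hm, this, hV, pow_add]

/-- the linear conclusion -/
def Concl (H V : Type*) [Group H] [AddCommGroup V] [DistribMulAction H V] : Prop :=
  ∃ (F E : Type) (_ : Field F) (_ : Fintype F) (_ : Field E) (_ : Fintype E) (_ : Algebra F E)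
    (f : V ≃+ E), Module.finrank F E = 2 ∧
    (∀ h : H, ∃ (a : E) (φ : E ≃ₐ[F] E), Algebra.norm F a = 1 ∧ ∀ v : V, f (h • v) = a * φ (f v)) ∧
    (∀ (a : E) (φ : E ≃ₐ[F] E), Algebra.norm F a = 1 → ∃ h : H, ∀ v : V, f (h • v) = a * φ (f v))

/-- existence of the big field -/
theorem exists_field {p c : ℕ} (hp : p.Prime) (hc : 0 < c) (P : Subgroup H)
    (hPc : Nat.card P = p ^ c + 1) (hV : Nat.card V = p ^ c * p ^ c)
    (hfree : ∀ k ∈ P, ∀ x : V, x ≠ 0 → k • x = x → k = 1)
    (hcomm : ∀ a ∈ P, ∀ b ∈ P, a * b = b * a) (v0 : V) (hv0 : v0 ≠ 0) :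
    ∃ (E : Type) (_ : Field E) (_ : Fintype E) (f : V ≃+ E) (a : H → E),
      Nat.card E = p ^ c * p ^ c ∧ f v0 = 1 ∧ (∀ k ∈ P, ∀ v, f (k • v) = a k * f v) ∧
      (∀ M : AddSubgroup E, (∀ k ∈ P, a k ∈ M) → M = ⊤) := by
  classical
  have hirr := irr_of_card (V := V) hp hc P hPc hV hfree
  have : Fact p.Prime := ⟨hp⟩
  let S : Set (AddMonoid.End V) := (DistribMulAction.toAddMonoidEnd H V) '' (P : Set H)
  have hcomm' : ∀ x ∈ S, ∀ y ∈ S, x * y = y * x := by
    rintro _ ⟨a, ha, rfl⟩ _ ⟨b, hb, rfl⟩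
    rw [← map_mul, ← map_mul, hcomm a ha b hb]
  have hC := Subring.isMulCommutative_closure hcomm'
  set R := Subring.closure S with hR
  have hRc : ∀ x ∈ R, ∀ y ∈ R, x * y = y * x := fun x hx y hy => setLike_mul_comm hx hy
  have hPR : ∀ k ∈ P, DistribMulAction.toAddMonoidEnd H V k ∈ R := fun k hk =>
    Subring.subset_closure ⟨k, hk, rfl⟩
  have hker : ∀ x ∈ R, x ≠ 0 → ∀ v : V, x v = 0 → v = 0 := by
    intro x hx hx0 v hv
    let Kx : AddSubgroup V :=
      { carrier := {v | x v = 0}
        zero_mem' := map_zero x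
        add_mem' := by
          intro a b ha hb
          change x (a + b) = 0
          have ha : x a = 0 := ha
          have hb : x b = 0 := hb
          rw [map_add, ha, hb, add_zero]
        neg_mem' := by
          intro a ha
          change x (-a) = 0
          have ha : x a = 0 := ha
          rw [map_neg, ha, neg_zero] }
    rcases hirr Kx (by
      intro k hk m hm
      have h1 := congrArg (fun z : AddMonoid.End V => z m) (hRc x hx _ (hPR k hk))
      change x (k • m) = k • (x m) at h1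
      change x (k • m) = 0
      rw [h1]
      have : x m = 0 := hm
      rw [this, smul_zero]) with h | h
    · have : v ∈ Kx := hv
      rw [h] at this
      exact this
    · exfalso
      apply hx0
      ext w
      have : w ∈ Kx := by rw [h]; trivial
      exact this
  let _ : CommRing R := { (inferInstance : Ring R) with
    mul_comm := fun x y => Subtype.ext (hRc x x.2 y y.2) }
  have hfinE : Finite (AddMonoid.End V) :=
    Finite.of_injective (fun f : AddMonoid.End V => (f : V → V)) DFunLike.coe_injective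
  have hfin : Finite R := inferInstance
  have hnt : Nontrivial R := by
    refine ⟨0, 1, fun h => hv0 ?_⟩
    have := congrArg (fun z : R => (z : AddMonoid.End V) v0) h
    exact this.symm
  have hdom : IsDomain R := by
    have : NoZeroDivisors R := ⟨by
      intro x y hxy
      by_contra hno
      push Not at hno
      apply hno.2
      apply Subtype.ext
      ext v
      have h1 : (x : AddMonoid.End V) ((y : AddMonoid.End V) v) = 0 :=
        congrArg (fun z : R => (z : AddMonoid.End V) v) hxy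
      exact hker x x.2 (fun h => hno.1 (Subtype.ext h)) _ h1⟩
    exact NoZeroDivisors.to_isDomain R
  -- evaluation
  let ev : R →+ V :=
    { toFun := fun r => (r : AddMonoid.End V) v0
      map_zero' := rfl
      map_add' := fun x y => rfl }
  have hinj : Function.Injective ev := by
    rw [injective_iff_map_eq_zero]
    intro x hx
    by_contra h
    exact hv0 (hker x x.2 (fun h' => h (Subtype.ext h')) v0 hx)
  have hsurj : Function.Surjective ev := by
    rw [← AddMonoidHom.range_eq_top]
    rcases hirr ev.range (by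
      rintro k hk _ ⟨x, rfl⟩
      exact ⟨⟨_, R.mul_mem (hPR k hk) x.2⟩, rfl⟩) with h | h
    · exfalso
      have : v0 ∈ ev.range := ⟨1, rfl⟩
      rw [h] at this
      exact hv0 this
    · exact h
  let ve : R ≃+ V := AddEquiv.ofBijective ev ⟨hinj, hsurj⟩
  have hcR : Nat.card R = p ^ (c + c) := by
    rw [Nat.card_congr ve.toEquiv, hV, pow_add]
  let _ : Field R := (Finite.isField_of_domain R).toField
  let _ : Fintype R := Fintype.ofFinite R
  let _ : Fintype (GaloisField p (c + c)) := Fintype.ofFinite _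
  have hcE : Nat.card (GaloisField p (c + c)) = p ^ (c + c) := GaloisField.card p _ (by omega)
  let θ : R ≃+* GaloisField p (c + c) := FiniteField.ringEquivOfCardEq (by
    rw [← Nat.card_eq_fintype_card, ← Nat.card_eq_fintype_card, hcR, hcE])
  refine ⟨GaloisField p (c + c), inferInstance, inferInstance, ve.symm.trans θ.toAddEquiv,
    fun k => if hk : k ∈ P then θ ⟨_, hPR k hk⟩ else 0, ?_, ?_, ?_, ?_⟩
  · rw [hcE, pow_add]
  · change θ (ve.symm v0) = 1
    have : ve.symm v0 = 1 := by rw [AddEquiv.symm_apply_eq]; rfl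
    rw [this, map_one]
  · intro k hk v
    change θ (ve.symm (k • v)) = (if hk : k ∈ P then θ ⟨_, hPR k hk⟩ else 0) * θ (ve.symm v)
    rw [dif_pos hk, ← map_mul]
    congr 1
    rw [AddEquiv.symm_apply_eq]
    change k • v = k • (ve (ve.symm v))
    rw [AddEquiv.apply_symm_apply]
  · intro M hM
    -- `R` is the additive closure of `P`
    have h1 : ∀ x (hx : x ∈ R), θ ⟨x, hx⟩ ∈ M := by
      intro x hx
      have h2 : x ∈ AddSubgroup.closure S := by
        rw [hR, Subring.mem_closure_iff] at hx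
        have h3 : ((Submonoid.closure S : Submonoid (AddMonoid.End V)) : Set (AddMonoid.End V)) = S := by
          let Sm : Submonoid (AddMonoid.End V) := P.toSubmonoid.map (DistribMulAction.toAddMonoidEnd H V)
          have h4 : S = (Sm : Set (AddMonoid.End V)) := rfl
          rw [h4, Submonoid.closure_eq]
        rwa [h3] at hx
      have h3 : ∀ (x) (hx : x ∈ AddSubgroup.closure S), ∃ (hxR : x ∈ R), θ ⟨x, hxR⟩ ∈ M := by
        intro x hx
        induction hx using AddSubgroup.closure_induction with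
        | mem x hx =>
          obtain ⟨k, hk, rfl⟩ := hx
          have hk : k ∈ P := hk
          refine ⟨hPR k hk, ?_⟩
          have := hM k hk
          dsimp only at this
          rwa [dif_pos hk] at this
        | zero => exact ⟨R.zero_mem, by
            have : (⟨0, R.zero_mem⟩ : R) = 0 := rfl
            rw [this, map_zero]; exact M.zero_mem⟩
        | add x y _ _ hx hy =>
          obtain ⟨hx1, hx2⟩ := hx
          obtain ⟨hy1, hy2⟩ := hy
          refine ⟨R.add_mem hx1 hy1, ?_⟩
          have : (⟨x + y, R.add_mem hx1 hy1⟩ : R) = ⟨x, hx1⟩ + ⟨y, hy1⟩ := rfl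
          rw [this, map_add]
          exact M.add_mem hx2 hy2
        | neg x _ hx =>
          obtain ⟨hx1, hx2⟩ := hx
          refine ⟨R.neg_mem hx1, ?_⟩
          have : (⟨-x, R.neg_mem hx1⟩ : R) = -⟨x, hx1⟩ := rfl
          rw [this, map_neg]
          exact M.neg_mem hx2
      obtain ⟨_, h5⟩ := h3 x h2
      exact h5
    rw [eq_top_iff]
    intro y _
    have := h1 _ (θ.symm y).2
    rwa [Subtype.coe_eta, RingEquiv.apply_symm_apply] at this


theorem concl_of_data {p c : ℕ} (hp : p.Prime) (hc : 0 < c) (P : Subgroup H)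
    (hPc : Nat.card P = p ^ c + 1) (hV : Nat.card V = p ^ c * p ^ c)
    (faith : ∀ h : H, (∀ v : V, h • v = v) → h = 1)
    (hfree : ∀ k ∈ P, ∀ x : V, x ≠ 0 → k • x = x → k = 1)
    (hcomm : ∀ a ∈ P, ∀ b ∈ P, a * b = b * a) (s : H) (hs1 : s ≠ 1) (hs : s * s = 1)
    (hinv : ∀ k ∈ P, s * k = k⁻¹ * s) (hH : ∀ h : H, h ∈ P ∨ h * s ∈ P)
    (v0 : V) (hv0 : v0 ≠ 0) (hsv0 : s • v0 = v0) : Concl H V := by
  classical
  obtain ⟨E, _, _, f, a, hcE, hf0, hfa, hM⟩ := exists_field hp hc P hPc hV hfree hcomm v0 hv0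
  -- the automorphism
  let σ' : E ≃+ E := (f.symm.trans (DistribMulAction.toAddEquiv V s)).trans f
  have hσ' : ∀ x : E, σ' x = f (s • f.symm x) := fun x => rfl
  have hσf : ∀ v : V, σ' (f v) = f (s • v) := fun v => by rw [hσ', AddEquiv.symm_apply_apply]
  have hσ1 : σ' 1 = 1 := by rw [← hf0, hσf, hsv0]
  have hfk : ∀ k ∈ P, f (k • v0) = a k := fun k hk => by rw [hfa k hk, hf0, mul_one]
  have hσa : ∀ k ∈ P, ∀ y, σ' (a k * y) = a k⁻¹ * σ' y := by
    intro k hk y
    obtain ⟨v, rfl⟩ := f.surjective y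
    rw [← hfa k hk, hσf, hσf, ← hfa _ (P.inv_mem hk), ← mul_smul, ← mul_smul, hinv k hk]
  have hσa1 : ∀ k ∈ P, σ' (a k) = a k⁻¹ := by
    intro k hk
    have := hσa k hk 1
    rwa [mul_one, hσ1, mul_one] at this
  have hσmul : ∀ x y, σ' (x * y) = σ' x * σ' y := by
    intro x y
    let M : AddSubgroup E :=
      { carrier := {x | ∀ y, σ' (x * y) = σ' x * σ' y}
        zero_mem' := by intro y; rw [zero_mul, map_zero, zero_mul]
        add_mem' := by
          intro a b ha hb y
          have ha := ha y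
          have hb := hb y
          rw [add_mul, map_add, ha, hb, map_add, add_mul]
        neg_mem' := by
          intro a ha y
          have ha := ha y
          rw [neg_mul, map_neg, ha, map_neg, neg_mul] }
    have h1 : M = ⊤ := hM M (by
      intro k hk y
      rw [hσa k hk, hσa1 k hk])
    have h2 : x ∈ M := by rw [h1]; trivial
    exact h2 y
  let σ : RingAut E := { σ' with map_mul' := hσmul, map_add' := map_add σ' }
  have hσσ' : ∀ x, σ x = σ' x := fun x => rfl
  have hσσ : σ * σ = 1 := by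
    apply RingEquiv.ext
    intro x
    obtain ⟨v, rfl⟩ := f.surjective x
    change σ' (σ' (f v)) = f v
    rw [hσf, hσf, ← mul_smul, hs, one_smul]
  have hσne : σ ≠ 1 := by
    intro h
    apply hs1
    apply faith
    intro v
    apply f.injective
    rw [← hσf, ← hσσ', h]; rfl
  let G0 := Subgroup.zpowers σ
  have hG0 : ∀ g ∈ G0, g = 1 ∨ g = σ := by
    rintro g hg
    obtain ⟨n, rfl⟩ := Subgroup.mem_zpowers_iff.mp hg
    rcases Int.even_or_odd' n with ⟨m, rfl | rfl⟩
    · left
      rw [zpow_mul]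
      have : σ ^ (2 : ℤ) = 1 := by rw [zpow_two]; exact hσσ
      rw [this, one_zpow]
    · right
      rw [zpow_add, zpow_mul]
      have : σ ^ (2 : ℤ) = 1 := by rw [zpow_two]; exact hσσ
      rw [this, one_zpow, one_mul, zpow_one]
  have hcG0 : Nat.card G0 = 2 := by
    rw [Nat.card_zpowers]
    apply orderOf_eq_prime
    · rw [pow_two]; exact hσσ
    · exact hσne
  have : Finite G0 := Nat.finite_of_card_ne_zero (by rw [hcG0]; norm_num)
  let _ : Fintype G0 := Fintype.ofFinite _
  let F := FixedPoints.subfield G0 E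
  let _ : Fintype F := Fintype.ofFinite _
  have hfr : Module.finrank F E = 2 := by
    rw [FixedPoints.finrank_eq_card, ← Nat.card_eq_fintype_card, hcG0]
  have hcF : Nat.card F = p ^ c := by
    have h1 : Nat.card E = Nat.card F ^ 2 := by
      rw [← hfr]; exact Module.natCard_eq_pow_finrank (K := F) (V := E)
    rw [hcE, ← pow_two] at h1
    exact (Nat.pow_left_injective (n := 2) (by norm_num) h1).symm
  -- the norm
  have hq : 1 < p ^ c := Nat.one_lt_pow hc.ne' hp.one_lt
  have hnorm : ∀ x : E, Algebra.norm F x = 1 ↔ x ^ (p ^ c + 1) = 1 := by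
    intro x
    have h1 := FiniteField.algebraMap_norm_eq_pow (K := F) (K' := E) (x := x)
    have h2 : (Nat.card E - 1) / (Nat.card F - 1) = p ^ c + 1 := by
      rw [hcE, hcF]
      apply Nat.div_eq_of_eq_mul_left (by omega)
      obtain ⟨m, hm⟩ : ∃ m, p ^ c = m + 1 := ⟨p ^ c - 1, by omega⟩
      rw [hm]
      simp only [Nat.add_sub_cancel]
      have : (m + 1) * (m + 1) = (m + 1 + 1) * m + 1 := by ring
      omega
    rw [h2] at h1
    rw [← h1]
    constructor
    · intro h; rw [h, map_one]
    · intro h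
      apply (algebraMap F E).injective
      rw [h, map_one]
  have hapow : ∀ k ∈ P, Algebra.norm F (a k) = 1 := by
    intro k hk
    rw [hnorm]
    have h1 : ∀ n : ℕ, (a k) ^ n = a (k ^ n) := by
      intro n
      induction n with
      | zero =>
        have := hfk 1 P.one_mem
        rw [one_smul, hf0] at this
        rw [pow_zero, pow_zero, this]
      | succ n ih =>
        rw [pow_succ', ih, ← hfk _ (P.pow_mem hk n), ← hfa k hk, ← mul_smul, ← pow_succ',
          hfk _ (P.pow_mem hk (n + 1))]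
    rw [h1]
    have h2 : k ^ (p ^ c + 1) = 1 := by
      have h3 := pow_card_eq_one' (x := (⟨k, hk⟩ : P))
      rw [hPc] at h3
      exact congrArg Subtype.val h3
    rw [h2, ← hfk 1 P.one_mem, one_smul, hf0]
  have hasurj : ∀ x : E, Algebra.norm F x = 1 → ∃ k ∈ P, a k = x := by
    intro x hx
    -- counting
    let T : Finset E := (Polynomial.nthRoots (p ^ c + 1) (1 : E)).toFinset
    have hT : ∀ y, y ∈ T ↔ y ^ (p ^ c + 1) = 1 := by
      intro y
      rw [Multiset.mem_toFinset, Polynomial.mem_nthRoots (by omega)]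
    have hTc : T.card ≤ p ^ c + 1 :=
      (Multiset.toFinset_card_le _).trans (Polynomial.card_nthRoots _ _)
    have hPfin : Finite P := Nat.finite_of_card_ne_zero (by rw [hPc]; omega)
    let _ : Fintype P := Fintype.ofFinite _
    let A : Finset E := Finset.univ.image (fun k : P => a k)
    have hAc : A.card = p ^ c + 1 := by
      rw [Finset.card_image_of_injective, Finset.card_univ, ← Nat.card_eq_fintype_card, hPc]
      intro k l hkl
      have hkl : a k = a l := hkl
      rw [← hfk k k.2, ← hfk l l.2] at hkl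
      have h1 := f.injective hkl
      have h2 : ((l : H)⁻¹ * k) • v0 = v0 := by rw [mul_smul, h1, inv_smul_smul]
      have h3 := hfree _ (P.mul_mem (P.inv_mem l.2) k.2) v0 hv0 h2
      apply Subtype.ext
      rw [← mul_left_cancel_iff (a := (l : H)⁻¹), h3, inv_mul_cancel]
    have hAT : A ⊆ T := by
      intro y hy
      obtain ⟨k, _, rfl⟩ := Finset.mem_image.mp hy
      rw [hT]
      exact (hnorm _).mp (hapow k k.2)
    have hAT' : A = T := Finset.eq_of_subset_of_card_le hAT (by rw [hAc]; exact hTc)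
    have h1 : x ∈ T := (hT x).mpr ((hnorm x).mp hx)
    rw [← hAT'] at h1
    obtain ⟨k, _, hk⟩ := Finset.mem_image.mp h1
    exact ⟨k, k.2, hk⟩
  -- the automorphisms
  let σF : E ≃ₐ[F] E := AlgEquiv.ofRingEquiv (f := σ) (fun x => x.2 ⟨σ, Subgroup.mem_zpowers σ⟩)
  have hσF : ∀ x, σF x = σ' x := fun x => rfl
  have hσFne : σF ≠ 1 := by
    intro h
    apply hσne
    apply RingEquiv.ext
    intro x
    exact congrArg (fun z : E ≃ₐ[F] E => z x) h
  have haut : ∀ φ : E ≃ₐ[F] E, φ = 1 ∨ φ = σF := by
    intro φ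
    have h1 : Nat.card (E ≃ₐ[F] E) = 2 := by
      rw [← hfr]; exact IsGalois.card_aut_eq_finrank F E
    by_contra hno
    push Not at hno
    have h2 : ({1, σF, φ} : Set (E ≃ₐ[F] E)).ncard = 3 :=
      Set.ncard_eq_three.mpr ⟨1, σF, φ, hσFne.symm, hno.1.symm, hno.2.symm, rfl⟩
    have h3 := Set.ncard_le_card ({1, σF, φ} : Set (E ≃ₐ[F] E))
    omega
  refine ⟨F, E, inferInstance, inferInstance, inferInstance, inferInstance, inferInstance, f, hfr,
    ?_, ?_⟩
  · intro h
    rcases hH h with h | h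
    · exact ⟨a _, 1, hapow _ h, fun v => hfa _ h v⟩
    · refine ⟨_, σF, hapow _ h, fun v => ?_⟩
      rw [hσF, hσf, ← hfa _ h, ← mul_smul, mul_assoc, hs, mul_one]
  · intro x φ hx
    obtain ⟨k, hk, rfl⟩ := hasurj x hx
    rcases haut φ with rfl | rfl
    · exact ⟨k, fun v => hfa k hk v⟩
    · refine ⟨k * s, fun v => ?_⟩
      rw [hσF, hσf, ← hfa _ hk, mul_smul]

end Cfsg.Agent.H900.BinLin
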