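import Mathlib
import Cfsg.Agent.H900.BinLin.Basic

/-!
# The set `TT` of elements with maximal fixed space
-/

set_option autoImplicit false
set_option linter.unusedSectionVars false
set_option linter.unusedVariables false

namespace Cfsg.Agent.H900.BinLin

open BinN

/-- elements `≠ 1` with (inclusion-)maximal fixed space -/
def TT (H V : Type*) [Group H] [AddCommGroup V] [DistribMulAction H V] : Set H :=
  {g | g ≠ 1 ∧ ∀ k : H, k ≠ 1 → U V g ≤ U V k → U V k ≤ U V g}

namespace BinN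

variable {p : ℕ} {H V : Type*} [Group H] [AddCommGroup V] [DistribMulAction H V]
  [Finite V] [Finite H]

theorem exists_TT_ge (k : H) (hk : k ≠ 1) : ∃ g ∈ TT H V, U V k ≤ U V g := by
  obtain ⟨g, ⟨hg1, hg2⟩, hmax⟩ := Set.exists_max_image
    {g : H | g ≠ 1 ∧ U V k ≤ U V g} (fun t => Nat.card (U V t))
    (Set.toFinite _) ⟨k, hk, le_rfl⟩
  refine ⟨g, ⟨hg1, fun l hl hle => ?_⟩, hg2⟩
  by_contra hno
  have hlt : U V g < U V l := lt_of_le_not_ge hle hno
  have h1 : Nat.card (U V g) < Nat.card (U V l) := Set.Finite.card_lt_card (Set.toFinite _) hlt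
  have h2 := hmax l ⟨hl, hg2.trans hle⟩
  omega

theorem TT_conj {g : H} (hg : g ∈ TT H V) (k : H) : k * g * k⁻¹ ∈ TT H V := by
  refine ⟨fun h => hg.1 ?_, fun l hl hle => ?_⟩
  · have : g = k⁻¹ * (k * g * k⁻¹) * k := by group
    rw [this, h]; group
  · have h1 : U V g ≤ U V (k⁻¹ * l * k) := by
      intro v hv
      have := hle (conj_mem_U.mpr hv)
      have h2 : l = k * (k⁻¹ * l * k) * k⁻¹ := by group
      rw [h2] at this
      exact conj_mem_U.mp this
    have h2 : k⁻¹ * l * k ≠ 1 := by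
      intro h
      apply hl
      have : l = k * (k⁻¹ * l * k) * k⁻¹ := by group
      rw [this, h]; group
    have h3 := hg.2 _ h2 h1
    intro v hv
    rw [mem_U_conj]
    apply h3
    have h4 : l = k * (k⁻¹ * l * k) * k⁻¹ := by group
    rw [h4] at hv
    exact mem_U_conj.mp hv

/-- uniqueness of the element attached to `w`. -/
theorem TT_eq (hB : BinN p H V) {g : H} (hg : g ∈ TT H V) {w : V} (hw : w ≠ 0)
    (hwg : w ∈ Im V g) {t : H} (ht : ∀ v : V, Cj H v (v + w) ↔ t • v = v + w) : g = t := by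
  obtain ⟨x, hx⟩ := mem_Im.mp hwg
  have htx : t • x = x + w := (ht x).mp ⟨g, hx⟩
  have h1 : U V g ≤ U V t := by
    intro c hc
    rw [mem_U] at hc ⊢
    have h2 : g • (x + c) = (x + c) + w := by rw [smul_add, hx, hc]; abel
    have h3 := (ht (x + c)).mp ⟨g, h2⟩
    rw [smul_add, htx] at h3
    have h4 : x + w + t • c = x + w + c := by rw [h3]; abel
    exact add_left_cancel h4
  by_contra hne
  have hne' : g⁻¹ * t ≠ 1 := by
    intro h
    apply hne
    have : t = g * (g⁻¹ * t) := by group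
    rw [this, h, mul_one]
  have h5 : U V g ≤ U V (g⁻¹ * t) := by
    intro c hc
    rw [mem_U, mul_smul, mem_U.mp (h1 hc), inv_smul_eq_iff]
    exact (mem_U.mp hc).symm
  have h6 := hg.2 _ hne' h5
  have h7 : x ∈ U V (g⁻¹ * t) := by
    rw [mem_U, mul_smul, htx, inv_smul_eq_iff, hx]
  have h8 := mem_U.mp (h6 h7)
  rw [hx] at h8
  apply hw
  simpa using h8

theorem TT_iff (hB : BinN p H V) {g : H} (hg : g ∈ TT H V) {w : V} (hw : w ≠ 0)
    (hwg : w ∈ Im V g) (v : V) : Cj H v (v + w) ↔ g • v = v + w := by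
  obtain ⟨t, _, ht⟩ := hB.exists_inv w
  rw [hB.TT_eq hg hw hwg ht]
  exact ht v

theorem Im_ne_bot (hB : BinN p H V) {g : H} (hg : g ≠ 1) : ∃ w ∈ Im V g, w ≠ 0 := by
  by_contra hno
  push Not at hno
  apply hg
  apply hB.faith
  intro v
  have := hno _ (sub_mem_Im g v)
  rwa [sub_eq_zero] at this

theorem TT_sq (hB : BinN p H V) {g : H} (hg : g ∈ TT H V) : g * g = 1 := by
  obtain ⟨w, hwg, hw⟩ := hB.Im_ne_bot hg.1
  obtain ⟨t, ht, ht'⟩ := hB.exists_inv w
  rw [hB.TT_eq hg hw hwg ht']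
  exact ht

theorem smul_Im_of_sq {g : H} (h : g * g = 1) {w : V} (hw : w ∈ Im V g) : g • w = -w := by
  obtain ⟨x, hx⟩ := mem_Im.mp hw
  have h1 : g • g • x = x := by rw [← mul_smul, h, one_smul]
  rw [hx, smul_add, hx] at h1
  have h2 : x + (w + g • w) = x + 0 := by rw [add_zero]; rw [← add_assoc]; exact h1
  exact (neg_eq_of_add_eq_zero_right (add_left_cancel h2)).symm

theorem TT_smul_Im (hB : BinN p H V) {g : H} (hg : g ∈ TT H V) {w : V} (hw : w ∈ Im V g) :
    g • w = -w := smul_Im_of_sq (hB.TT_sq hg) hw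

theorem TT_inv (hB : BinN p H V) {g : H} (hg : g ∈ TT H V) : g⁻¹ = g :=
  inv_eq_of_mul_eq_one_left (hB.TT_sq hg)

theorem TT_unique (hB : BinN p H V) {g g' : H} (hg : g ∈ TT H V) (hg' : g' ∈ TT H V) {w : V}
    (hw : w ≠ 0) (hwg : w ∈ Im V g) (hwg' : w ∈ Im V g') : g = g' := by
  obtain ⟨t, _, ht⟩ := hB.exists_inv w
  rw [hB.TT_eq hg hw hwg ht, hB.TT_eq hg' hw hwg' ht]

theorem TT_disj (hB : BinN p H V) {g g' : H} (hg : g ∈ TT H V) (hg' : g' ∈ TT H V)
    (hne : g ≠ g') {w : V} (hwg : w ∈ Im V g) (hwg' : w ∈ Im V g') : w = 0 := by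
  by_contra hw
  exact hne (hB.TT_unique hg hg' hw hwg hwg')

theorem TT_comm_of_fix (hB : BinN p H V) {g k : H} (hg : g ∈ TT H V) {w : V}
    (hw : w ≠ 0) (hwg : w ∈ Im V g) (hk : k • w = w) : k * g = g * k := by
  have h1 : w ∈ Im V (k * g * k⁻¹) := by
    have := conj_mem_Im (k := k) hwg
    rwa [hk] at this
  have h2 := hB.TT_unique (TT_conj hg k) hg hw h1 hwg
  have h3 : k * g = (k * g * k⁻¹) * k := by group
  rw [h3, h2]

theorem U_le_of (hB : BinN p H V) {g k : H} (hg : g ∈ TT H V) {w : V}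
    (hw : w ≠ 0) (hwg : w ∈ Im V g) (hwk : w ∈ Im V k) : U V k ≤ U V g := by
  obtain ⟨x, hx⟩ := mem_Im.mp hwk
  have h0 := (hB.TT_iff hg hw hwg x).mp ⟨k, hx⟩
  intro c hc
  rw [mem_U] at hc ⊢
  have h2 : k • (x + c) = (x + c) + w := by rw [smul_add, hx, hc]; abel
  have h3 := (hB.TT_iff hg hw hwg (x + c)).mp ⟨k, h2⟩
  rw [smul_add, h0] at h3
  have h4 : x + w + g • c = x + w + c := by rw [h3]; abel
  exact add_left_cancel h4

theorem TT_fix_of_comm (hB : BinN p H V) {s t : H} (hs : s ∈ TT H V) (ht : t ∈ TT H V)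
    (hne : s ≠ t) (hc : s * t = t * s) {w : V} (hw : w ∈ Im V t) : s • w = w := by
  have h1 : s • w ∈ Im V t := by
    have := conj_mem_Im (k := s) hw
    rwa [hc, mul_inv_cancel_right] at this
  have h2 : s • w - w ∈ Im V t := (Im V t).sub_mem h1 hw
  have h3 := hB.TT_disj hs ht hne (sub_mem_Im s w) h2
  rwa [sub_eq_zero] at h3

theorem TT_norm (hB : BinN p H V) {t : H} (ht : t ∈ TT H V) {y : V} (hy : y ∈ Im V t) {h : H}
    (hh : h • y ∈ Im V t) : h • y = y ∨ h • y = -y := by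
  by_cases hw : h • y - y = 0
  · left; rwa [sub_eq_zero] at hw
  · right
    have h1 : h • y - y ∈ Im V t := (Im V t).sub_mem hh hy
    have h2 := (hB.TT_iff ht hw h1 y).mp ⟨h, by abel⟩
    rw [hB.TT_smul_Im ht hy] at h2
    rw [h2]; abel

theorem TT_comm_iff_fix (hB : BinN p H V) {s t : H} (hs : s ∈ TT H V) (ht : t ∈ TT H V)
    (hne : s ≠ t) {w : V} (hw0 : w ≠ 0) (hw : w ∈ Im V t) : s * t = t * s ↔ s • w = w :=
  ⟨fun hc => hB.TT_fix_of_comm hs ht hne hc hw, fun h => hB.TT_comm_of_fix ht hw0 hw h⟩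

theorem eq_zero_of_noncomm (hB : BinN p H V) {s t : H} (ht : t ∈ TT H V)
    (hst : s * t ≠ t * s) {w : V} (hw : w ∈ Im V t) (hs : s • w = w) : w = 0 := by
  by_contra h0
  exact hst (hB.TT_comm_of_fix ht h0 hw hs)

theorem card_Im_le_of_noncomm (hB : BinN p H V) {s t : H} (ht : t ∈ TT H V)
    (hst : s * t ≠ t * s) : Nat.card (Im V t) ≤ Nat.card (Im V s) := by
  refine Nat.card_le_card_of_injective
    (fun w : Im V t => (⟨s • (w : V) - (w : V), sub_mem_Im s (w : V)⟩ : Im V s)) ?_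
  intro a b hab
  have h1 : s • (a : V) - (a : V) = s • (b : V) - (b : V) := congrArg Subtype.val hab
  have h2 : s • ((a : V) - (b : V)) = (a : V) - (b : V) := by
    rw [smul_sub]
    have : s • (a : V) - s • (b : V) =
      (s • (a : V) - (a : V)) - (s • (b : V) - (b : V)) + ((a : V) - (b : V)) := by abel
    rw [this, h1, sub_self, zero_add]
  have h0 : (a : V) - (b : V) ∈ Im V t := (Im V t).sub_mem a.2 b.2
  have h3 := hB.eq_zero_of_noncomm ht hst h0 h2
  exact Subtype.ext (sub_eq_zero.mp h3)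

theorem card_Im_of_noncomm (hB : BinN p H V) {s t : H} (hs : s ∈ TT H V) (ht : t ∈ TT H V)
    (hst : s * t ≠ t * s) : Nat.card (Im V s) = Nat.card (Im V t) :=
  le_antisymm (hB.card_Im_le_of_noncomm hs (Ne.symm hst)) (hB.card_Im_le_of_noncomm ht hst)

/-- the map `(s - 1) : Im t → Im s` is onto for noncommuting `s, t`. -/
theorem exists_sub_of_noncomm (hB : BinN p H V) {s t : H} (hs : s ∈ TT H V) (ht : t ∈ TT H V)
    (hst : s * t ≠ t * s) {w : V} (hw : w ∈ Im V s) : ∃ x ∈ Im V t, s • x = x + w := by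
  have hinj : Function.Injective
      (fun w : Im V t => (⟨s • (w : V) - (w : V), sub_mem_Im s (w : V)⟩ : Im V s)) := by
    intro a b hab
    have h1 : s • (a : V) - (a : V) = s • (b : V) - (b : V) := congrArg Subtype.val hab
    have h2 : s • ((a : V) - (b : V)) = (a : V) - (b : V) := by
      rw [smul_sub]
      have : s • (a : V) - s • (b : V) =
        (s • (a : V) - (a : V)) - (s • (b : V) - (b : V)) + ((a : V) - (b : V)) := by abel
      rw [this, h1, sub_self, zero_add]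
    have h0 : (a : V) - (b : V) ∈ Im V t := (Im V t).sub_mem a.2 b.2
    have h3 := hB.eq_zero_of_noncomm ht hst h0 h2
    exact Subtype.ext (sub_eq_zero.mp h3)
  have hbij := (Nat.bijective_iff_injective_and_card _).mpr
    ⟨hinj, (hB.card_Im_of_noncomm hs ht hst).symm⟩
  obtain ⟨x, hx⟩ := hbij.2 ⟨w, hw⟩
  refine ⟨x, x.2, ?_⟩
  have h1 : s • (x : V) - (x : V) = w := congrArg Subtype.val hx
  rw [← h1]; abel

/-! ### Orthogonality, `p` odd -/

/-- the orthogonality relation (used for `p` odd) -/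
def Perp (H : Type*) {V : Type*} [Group H] [AddCommGroup V] [DistribMulAction H V] (u w : V) :
    Prop := Cj H (u + w) (u - w)

theorem perp_symm (hB : BinN p H V) {u w : V} (h : Perp H u w) : Perp H w u := by
  have h1 := h.trans (hB.cj_neg (u - w))
  unfold Perp
  convert h1 using 1 <;> abel

theorem exists_perp_inv (hB : BinN p H V) (hp : p ≠ 2) (w : V) :
    ∃ t : H, t * t = 1 ∧ (∀ v : V, Cj H v (v + w) ↔ t • v = v + w) ∧
      (∀ u : V, Perp H u w ↔ t • u = u) ∧ t • w = -w := by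
  obtain ⟨t, ht, htv⟩ := hB.exists_inv w
  have hw : t • w = -w := by
    have h1 : -hf p w + w = hf p w := by
      nth_rewrite 2 [← hB.hf_add hp w]
      abel
    have h2 := (htv (-hf p w)).mp (by rw [h1]; exact (hB.cj_neg _).symm)
    rw [h1, smul_neg] at h2
    have h5 : t • hf p w = - hf p w := neg_eq_iff_eq_neg.mp h2
    have h6 := hB.hf_add hp w
    calc t • w = t • (hf p w + hf p w) := by rw [h6]
      _ = -(hf p w + hf p w) := by rw [smul_add, h5]; abel
      _ = -w := by rw [h6]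
  refine ⟨t, ht, htv, fun u => ⟨fun h => ?_, fun h => ⟨t, ?_⟩⟩, hw⟩
  · have h1 : Cj H (hf p (u - w)) (hf p (u - w) + w) := by
      have h2 : hf p (u + w) = hf p (u - w) + w := by
        have h3 : hf p (w + w) = w := by
          have : hf p (w + w) = hf p w + hf p w := by rw [hf, hf, nsmul_add]
          rw [this, hB.hf_add hp]
        have h4 : u + w = (u - w) + (w + w) := by abel
        rw [h4]
        have h5 : hf p (u - w + (w + w)) = hf p (u - w) + hf p (w + w) := by
          rw [hf, hf, hf, nsmul_add]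
        rw [h5, h3]
      rw [← h2]
      exact (Cj.nsmul _ h).symm
    have h2 := (htv _).mp h1
    have h3 : t • (u - w) = u + w := by
      have h4 := hB.hf_add hp (u - w)
      calc t • (u - w) = t • (hf p (u - w) + hf p (u - w)) := by rw [h4]
        _ = (hf p (u - w) + hf p (u - w)) + (w + w) := by rw [smul_add, h2]; abel
        _ = u + w := by rw [h4]; abel
    rw [smul_sub, hw] at h3
    have h5 : t • u + w = u + w := by rw [← h3]; abel
    exact add_right_cancel h5
  · rw [smul_add, h, hw]; abel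

theorem perp_add (hB : BinN p H V) (hp : p ≠ 2) {u u' w : V} (h : Perp H u w) (h' : Perp H u' w) :
    Perp H (u + u') w := by
  obtain ⟨t, _, _, h1, _⟩ := hB.exists_perp_inv hp w
  rw [h1] at h h' ⊢
  rw [smul_add, h, h']

theorem perp_neg (hB : BinN p H V) (hp : p ≠ 2) {u w : V} (h : Perp H u w) :
    Perp H (-u) w := by
  obtain ⟨t, _, _, h1, _⟩ := hB.exists_perp_inv hp w
  rw [h1] at h ⊢
  rw [smul_neg, h]

theorem perp_self (hB : BinN p H V) (hp : p ≠ 2) {w : V} (h : Perp H w w) : w = 0 := by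
  unfold Perp at h
  rw [sub_self, Cj.zero_iff] at h
  exact hB.two_nsmul_eq_zero hp h

/-- if `g² = 1`, then `Im g ⊥ U g`. -/
theorem perp_of_fix_neg (hB : BinN p H V) {g : H} {a u : V} (ha : g • a = -a) (hu : g • u = u) :
    Perp H a u := by
  have h1 : Cj H (a + u) (-a + u) := ⟨g, by rw [smul_add, ha, hu]⟩
  have h2 := h1.trans (hB.cj_neg _)
  unfold Perp
  convert h2 using 1
  abel

end BinN

end Cfsg.Agent.H900.BinLin
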